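import Cfsg.Agent.Lib.OddLocal.UniquenessPassing
import Mathlib

/-!
Groups in which abelian subgroups of equal order are conjugate: lifting to supplements.
-/

set_option autoImplicit false

namespace Cfsg.Agent.AbelianConj

open Subgroup
open scoped commutatorElement

universe u

variable {G : Type u} [Group G] [Finite G]

variable (G) in
/-- Abelian subgroups of equal order are conjugate. -/
def HasConj : Prop := ∀ A B : Subgroup G, IsMulCommutative ↥A → IsMulCommutative ↥B →
  Nat.card ↥A = Nat.card ↥B → ∃ g : G, B = A.map (MulAut.conj g).toMonoidHom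

/-- For each prime of `M`, either the Sylow subgroups are cyclic or `M` contains one. -/
def Good (M : Subgroup G) : Prop := ∀ r : ℕ, r.Prime → r ∣ Nat.card M →
  (∀ S : Subgroup G, IsPGroup r S → IsCyclic S) ∨ ∀ x : G, (∃ k, orderOf x = r ^ k) → x ∈ M

omit [Finite G] in
/-- The image of a subgroup conjugate to one inside a normal subgroup. -/
lemma mem_of_conj {M : Subgroup G} [M.Normal] {A B : Subgroup G} (hA : A ≤ M) {g : G}
    (h : B = A.map (MulAut.conj g).toMonoidHom) : B ≤ M := by
  subst h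
  rintro _ ⟨a, ha, rfl⟩
  exact ‹M.Normal›.conj_mem a (hA ha) g

/-- An abelian subgroup of order `r ^ 2` and exponent `r` forbids elements of order `r ^ 2`. -/
lemma all_mem_of_elementary (hB : HasConj G) (M : Subgroup G) [M.Normal] {r : ℕ} (hr : r.Prime)
    (hrM : r ∣ Nat.card M) (V : Subgroup G) (hV : IsMulCommutative V)
    (hVexp : ∀ v ∈ V, v ^ r = 1) (hVcard : Nat.card V = r ^ 2) :
    ∀ x : G, (∃ k, orderOf x = r ^ k) → x ∈ M := by
  haveI := Fact.mk hr
  have h2 : ∀ x : G, orderOf x ≠ r ^ 2 := by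
    intro x hx
    obtain ⟨g, hg⟩ := hB V (zpowers x) hV inferInstance (by rw [hVcard, Nat.card_zpowers, hx])
    have hxV : x ∈ V.map (MulAut.conj g).toMonoidHom := hg ▸ mem_zpowers x
    obtain ⟨v, hv, hvx⟩ := hxV
    have h1 : x ^ r = 1 := by rw [← hvx, ← map_pow, hVexp v hv, map_one]
    have h3 := orderOf_dvd_of_pow_eq_one h1
    rw [hx] at h3
    have := Nat.le_of_dvd hr.pos h3
    have := hr.two_le
    nlinarith [sq r]
  intro x ⟨k, hk⟩
  rcases Nat.lt_or_ge k 2 with hk2 | hk2
  · interval_cases k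
    · rw [pow_zero, orderOf_eq_one_iff] at hk
      exact hk ▸ M.one_mem
    · rw [pow_one] at hk
      obtain ⟨⟨y, hyM⟩, hy⟩ := exists_prime_orderOf_dvd_card' (G := M) r hrM
      rw [Subgroup.orderOf_mk] at hy
      obtain ⟨g, hg⟩ := hB (zpowers y) (zpowers x) inferInstance inferInstance
        (by rw [Nat.card_zpowers, Nat.card_zpowers, hk, hy])
      exact mem_of_conj (zpowers_le.mpr hyM) hg (mem_zpowers x)
  · exfalso
    obtain ⟨j, rfl⟩ := Nat.exists_eq_add_of_le' hk2
    refine h2 (x ^ r ^ j) ?_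
    rw [orderOf_pow' _ (pow_ne_zero _ hr.ne_zero), hk,
      Nat.gcd_eq_right (pow_dvd_pow r (Nat.le_add_right j 2)), pow_add,
      Nat.mul_div_cancel_left _ (pow_pos hr.pos j)]

/-- Normal subgroups of odd order are good. -/
lemma good_of_odd (hB : HasConj G) (M : Subgroup G) [M.Normal] (hM : Odd (Nat.card M)) :
    Good M := by
  intro r hr hrM
  haveI := Fact.mk hr
  have hr2 : r ≠ 2 := fun h => by
    subst h; exact (Nat.not_even_iff_odd.mpr hM) (even_iff_two_dvd.mpr hrM)
  by_cases h : ∀ S : Subgroup G, IsPGroup r S → IsCyclic S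
  · exact Or.inl h
  push Not at h
  obtain ⟨S, hS, hnc⟩ := h
  obtain ⟨V, -, hV, hVcard⟩ :=
    Cfsg.Agent.Lib.OddLocal.exists_elementary_sq_of_not_cyclic hr2 S hS hnc
  exact Or.inr (all_mem_of_elementary hB M hr hrM V hV.1 hV.2 hVcard)

/-- In a cyclic group subgroups are ordered by divisibility of their orders. -/
lemma le_of_card_dvd_of_isCyclic {P A B : Subgroup G} (hP : IsCyclic P) (hA : A ≤ P) (hB : B ≤ P)
    (h : Nat.card A ∣ Nat.card B) : A ≤ B := by
  classical
  haveI : Fintype P := Fintype.ofFinite P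
  intro a ha
  have hsub : (Finset.univ.filter fun x : P => (x : G) ∈ B) ⊆
      Finset.univ.filter fun x : P => x ^ Nat.card B = 1 := by
    intro x hx
    simp only [Finset.mem_filter, Finset.mem_univ, true_and] at hx ⊢
    apply Subtype.ext
    rw [SubmonoidClass.coe_pow, OneMemClass.coe_one]
    exact congrArg Subtype.val (pow_card_eq_one' (x := (⟨(x : G), hx⟩ : B)))
  have hcardB : (Finset.univ.filter fun x : P => (x : G) ∈ B).card = Nat.card B := by
    rw [← Fintype.card_subtype, ← Nat.card_eq_fintype_card]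
    exact Nat.card_congr (subgroupOfEquivOfLe hB).toEquiv
  have heq := Finset.eq_of_subset_of_card_le hsub
    (by rw [hcardB]; exact IsCyclic.card_pow_eq_one_le Nat.card_pos)
  have h1 : (⟨a, hA ha⟩ : P) ∈ Finset.univ.filter fun x : P => x ^ Nat.card B = 1 := by
    simp only [Finset.mem_filter, Finset.mem_univ, true_and]
    apply Subtype.ext
    rw [SubmonoidClass.coe_pow, OneMemClass.coe_one]
    obtain ⟨c, hc⟩ := h
    rw [hc, pow_mul]
    have : a ^ Nat.card A = 1 := congrArg Subtype.val (pow_card_eq_one' (x := (⟨a, ha⟩ : A)))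
    show (a ^ Nat.card A) ^ c = 1
    rw [this, one_pow]
  rw [← heq] at h1
  simpa using h1

/-- A minimal supplement over a subgroup of a quotient. -/
lemma exists_supplement (M : Subgroup G) [M.Normal] (A : Subgroup (G ⧸ M)) :
    ∃ A₀ : Subgroup G, A₀.map (QuotientGroup.mk' M) = A ∧ M.subgroupOf A₀ ≤ frattini A₀ := by
  obtain ⟨A₀, hA₀⟩ := Set.Finite.exists_minimal
    (Set.toFinite {H : Subgroup G | H.map (QuotientGroup.mk' M) = A})
    ⟨A.comap (QuotientGroup.mk' M),
      map_comap_eq_self_of_surjective (QuotientGroup.mk'_surjective M) A⟩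
  refine ⟨A₀, hA₀.1, ?_⟩
  simp only [frattini, Order.radical, le_iInf_iff, Set.mem_setOf_eq]
  intro L hL
  by_contra hcon
  have htop : L ⊔ M.subgroupOf A₀ = ⊤ := hL.2 _ (lt_of_le_of_ne le_sup_left fun h =>
    hcon (h ▸ le_sup_right))
  have hmap : (L.map A₀.subtype).map (QuotientGroup.mk' M) = A := by
    have h1 : (L ⊔ M.subgroupOf A₀).map ((QuotientGroup.mk' M).comp A₀.subtype) = A := by
      rw [htop, ← Subgroup.map_map, ← MonoidHom.range_eq_map, range_subtype, hA₀.1]
    have h2 : (M.subgroupOf A₀).map ((QuotientGroup.mk' M).comp A₀.subtype) = ⊥ := by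
      rw [eq_bot_iff]
      rintro _ ⟨x, hx, rfl⟩
      exact mem_bot.mpr ((QuotientGroup.eq_one_iff _).mpr hx)
    rw [Subgroup.map_sup, h2, sup_bot_eq] at h1
    rwa [Subgroup.map_map]
  have h3 := hA₀.2 hmap (map_subtype_le L)
  refine hL.1 (eq_top_iff.mpr fun x _ => ?_)
  obtain ⟨y, hy, hyx⟩ := h3 x.2
  exact Subtype.ext hyx ▸ hy

/-- The order of a minimal supplement of an abelian subgroup, and its commutativity when the
Sylow subgroups for primes of `M` outside `M` are abelian. -/
theorem supplement_spec (M : Subgroup G) [M.Normal] (hM : Good M) (A : Subgroup (G ⧸ M))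
    (hA : IsMulCommutative A) (A₀ : Subgroup G) (hmap : A₀.map (QuotientGroup.mk' M) = A)
    (hfr : M.subgroupOf A₀ ≤ frattini A₀) :
    (∀ s : ℕ, s.Prime → (Nat.card A₀).factorization s =
      if s ∣ Nat.card A then (Nat.card A).factorization s + (Nat.card M).factorization s else 0) ∧
    IsMulCommutative A₀ := by
  classical
  set K := M.subgroupOf A₀ with hK
  let π : A₀ →* A := ((QuotientGroup.mk' M).comp A₀.subtype).codRestrict A
    fun x => hmap ▸ mem_map_of_mem _ x.2
  have hπ : Function.Surjective π := by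
    rintro ⟨a, ha⟩
    rw [← hmap] at ha
    obtain ⟨x, hx, rfl⟩ := ha
    exact ⟨⟨x, hx⟩, rfl⟩
  have hπK : π.ker = K := by
    ext x
    rw [MonoidHom.mem_ker, hK, mem_subgroupOf, ← QuotientGroup.eq_one_iff]
    exact Subtype.ext_iff
  have hcard : Nat.card A₀ = Nat.card A * Nat.card K := by
    rw [← card_mul_index K, ← hπK, index_ker,
      MonoidHom.range_eq_top.mpr hπ, Subgroup.card_top, mul_comm]
  have hcomm : ∀ x y : A₀, ⁅x, y⁆ ∈ K := fun x y => by
    rw [← hπK, MonoidHom.mem_ker, map_commutatorElement, commutatorElement_eq_one_iff_mul_comm]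
    exact hA.is_comm.comm _ _
  have hnil : Group.IsNilpotent A₀ := by
    refine ((Group.isNilpotent_of_finite_tfae (G := A₀)).out 0 2 rfl rfl).mpr fun L hL => ?_
    refine ⟨fun l hl g => ?_⟩
    have h1 : ⁅g, l⁆ ∈ L := frattini_le_coatom hL (hfr (hcomm g l))
    have h2 := L.mul_mem h1 hl
    simpa [commutatorElement_def, mul_assoc] using h2
  have hKdvd : Nat.card K ∣ Nat.card M := by
    rw [hK, ← inf_subgroupOf_right, Nat.card_congr (subgroupOfEquivOfLe inf_le_right).toEquiv]
    exact card_dvd_of_le inf_le_left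
  have hnodiv : ∀ s : ℕ, s.Prime → ¬ s ∣ Nat.card A → ¬ s ∣ Nat.card A₀ := by
    intro s hs hsA hsA₀
    haveI := Fact.mk hs
    obtain ⟨S⟩ : Nonempty (Sylow s A₀) := inferInstance
    have hSK : (S : Subgroup A₀) ≤ frattini A₀ := by
      intro x hx
      refine hfr ?_
      rw [← hπK, MonoidHom.mem_ker, ← orderOf_eq_one_iff]
      obtain ⟨k, hk⟩ := IsPGroup.iff_orderOf.mp S.isPGroup' ⟨x, hx⟩
      rw [Subgroup.orderOf_mk] at hk
      refine Nat.eq_one_of_dvd_coprimes ?_ (hk ▸ orderOf_map_dvd π x) (orderOf_dvd_natCard _)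
      exact Nat.Coprime.pow_left _ ((hs.coprime_iff_not_dvd).mpr hsA)
    haveI : (S : Subgroup A₀).Normal :=
      ((Group.isNilpotent_of_finite_tfae (G := A₀)).out 0 3 rfl rfl).mp hnil s inferInstance S
    obtain ⟨N, hN⟩ := exists_right_complement'_of_coprime S.card_coprime_index
    have hNne : N ≠ ⊤ := fun h => by
      rw [h] at hN
      have := isComplement'_top_right.mp hN
      exact S.ne_bot_of_dvd_card hsA₀ this
    obtain ⟨L, hL, hNL⟩ := (eq_top_or_exists_le_coatom N).resolve_left hNne
    exact hL.1 (top_le_iff.mp (hN.sup_eq_top ▸ sup_le (hSK.trans (frattini_le_coatom hL)) hNL))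
  have hmemM : ∀ s : ℕ, s.Prime → s ∣ Nat.card A → (∀ x : G, (∃ k, orderOf x = s ^ k) → x ∈ M) →
      False := by
    intro s hs hsA hall
    haveI := Fact.mk hs
    obtain ⟨S⟩ : Nonempty (Sylow s A₀) := inferInstance
    have hSK : (S : Subgroup A₀) ≤ K := fun x hx => by
      obtain ⟨k, hk⟩ := IsPGroup.iff_orderOf.mp S.isPGroup' ⟨x, hx⟩
      rw [Subgroup.orderOf_mk] at hk
      exact hall x ⟨k, by rw [Subgroup.orderOf_coe, hk]⟩
    refine S.not_dvd_index (dvd_trans ?_ (index_dvd_of_le hSK))
    rw [← hπK, index_ker, MonoidHom.range_eq_top.mpr hπ, Subgroup.card_top]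
    exact hsA
  refine ⟨fun s hs => ?_, ?_⟩
  · haveI := Fact.mk hs
    split_ifs with hsA
    · rw [hcard, Nat.factorization_mul Nat.card_pos.ne' Nat.card_pos.ne', Finsupp.add_apply]
      congr 1
      refine le_antisymm ?_ ?_
      · exact (Nat.factorization_le_iff_dvd Nat.card_pos.ne' Nat.card_pos.ne').mpr hKdvd s
      · by_cases hsM : s ∣ Nat.card M
        swap
        · rw [Nat.factorization_eq_zero_of_not_dvd hsM]; exact Nat.zero_le _
        rcases hM s hs hsM with hcyc | hall
        swap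
        · exact (hmemM s hs hsA hall).elim
        obtain ⟨S⟩ : Nonempty (Sylow s A₀) := inferInstance
        set T := (S : Subgroup A₀).map A₀.subtype with hT
        obtain ⟨P, hTP⟩ := (S.isPGroup'.map A₀.subtype).exists_le_sylow
        obtain ⟨Q⟩ : Nonempty (Sylow s M) := inferInstance
        obtain ⟨P', hQP⟩ := (Q.isPGroup'.map M.subtype).exists_le_sylow
        obtain ⟨g, hg⟩ := MulAction.exists_smul_eq G P' P
        set Q' := ((Q : Subgroup M).map M.subtype).map (MulAut.conj g).toMonoidHom with hQ'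
        have hQ'M : Q' ≤ M := mem_of_conj (map_subtype_le _) rfl
        have hQ'P : Q' ≤ P := by
          rw [← hg]
          exact Subgroup.map_mono hQP
        have hQ'c : Nat.card Q' = s ^ (Nat.card M).factorization s := by
          rw [hQ', ← Nat.card_congr (equivMapOfInjective _ _ (MulEquiv.injective _)).toEquiv,
            ← Nat.card_congr (equivMapOfInjective _ _ M.subtype_injective).toEquiv]
          exact Q.card_eq_multiplicity
        have hPc : IsCyclic (P : Subgroup G) := hcyc _ P.isPGroup'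
        have hQT : Q' ≤ T := by
          obtain ⟨a, ha⟩ := IsPGroup.iff_card.mp (S.isPGroup'.map A₀.subtype)
          rcases le_total a ((Nat.card M).factorization s) with h | h
          · exfalso
            have hTQ : T ≤ Q' := le_of_card_dvd_of_isCyclic hPc hTP hQ'P
              (by rw [hQ'c]; exact ha ▸ pow_dvd_pow s h)
            refine S.not_dvd_index (dvd_trans ?_ (index_dvd_of_le (K := K) fun x hx =>
              hQ'M (hTQ (mem_map_of_mem _ hx))))
            rw [← hπK, index_ker, MonoidHom.range_eq_top.mpr hπ, Subgroup.card_top]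
            exact hsA
          · exact le_of_card_dvd_of_isCyclic hPc hQ'P hTP
              (by rw [hQ'c]; exact ha ▸ pow_dvd_pow s h)
        have hQA : Q' ≤ A₀ := hQT.trans (map_subtype_le _)
        refine (hs.pow_dvd_iff_le_factorization Nat.card_pos.ne').mp ?_
        rw [← hQ'c, ← Nat.card_congr (subgroupOfEquivOfLe hQA).toEquiv]
        exact card_dvd_of_le fun x hx => hQ'M hx
    · exact Nat.factorization_eq_zero_of_not_dvd (hnodiv s hs hsA)
  · have hS : ∀ (s : ℕ) [Fact s.Prime] (S : Sylow s A₀), ∀ x y : (S : Subgroup A₀), x * y = y * x := by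
      intro s _ S x y
      have hs : s.Prime := Fact.out
      have hone : ¬ s ∣ Nat.card A₀ → x * y = y * x := fun h => by
        have h1 : (S : Subgroup A₀) = ⊥ := by
          rw [← card_eq_one, S.card_eq_multiplicity, Nat.factorization_eq_zero_of_not_dvd h,
            pow_zero]
        have hx : x = 1 := Subtype.ext (mem_bot.mp (h1 ▸ x.2))
        rw [hx, one_mul, mul_one]
      by_cases hsA : s ∣ Nat.card A
      swap
      · exact hone (hnodiv s hs hsA)
      by_cases hsM : s ∣ Nat.card M
      · rcases hM s hs hsM with hcyc | hall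
        · haveI := hcyc _ (S.isPGroup'.map A₀.subtype)
          obtain ⟨g, hg⟩ := IsCyclic.exists_generator (α := (S : Subgroup A₀).map A₀.subtype)
          let e := (S : Subgroup A₀).equivMapOfInjective A₀.subtype A₀.subtype_injective
          obtain ⟨i, hi⟩ := mem_zpowers_iff.mp (hg (e x))
          obtain ⟨j, hj⟩ := mem_zpowers_iff.mp (hg (e y))
          apply e.injective
          rw [map_mul, map_mul, ← hi, ← hj, ← zpow_add, ← zpow_add, add_comm]
        · exact (hmemM s hs hsA hall).elim
      · apply Subtype.ext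
        show (x : A₀) * y = y * x
        rw [← commutatorElement_eq_one_iff_mul_comm, ← orderOf_eq_one_iff]
        have h1 : ⁅(x : A₀), (y : A₀)⁆ ∈ (S : Subgroup A₀) := by
          rw [commutatorElement_def]
          exact mul_mem (mul_mem (mul_mem x.2 y.2) (inv_mem x.2)) (inv_mem y.2)
        obtain ⟨k, hk⟩ := IsPGroup.iff_orderOf.mp S.isPGroup' ⟨_, h1⟩
        rw [Subgroup.orderOf_mk] at hk
        have h2 : orderOf ⁅(x : A₀), (y : A₀)⁆ ∣ Nat.card M := by
          have h3 := (orderOf_dvd_natCard (⟨_, hcomm x y⟩ : K)).trans hKdvd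
          rwa [Subgroup.orderOf_mk] at h3
        refine Nat.eq_one_of_dvd_coprimes (a := s ^ k) (b := Nat.card M) ?_ (dvd_of_eq hk) h2
        exact Nat.Coprime.pow_left _ ((hs.coprime_iff_not_dvd).mpr hsM)
    obtain ⟨e⟩ := ((Group.isNilpotent_of_finite_tfae (G := A₀)).out 0 4 rfl rfl).mp hnil
    refine ⟨⟨fun a b => e.symm.injective ?_⟩⟩
    rw [map_mul, map_mul]
    funext q P
    exact @hS q ⟨Nat.prime_of_mem_primeFactors q.2⟩ P _ _

/-- Conjugacy of abelian subgroups passes to quotients by good normal subgroups. -/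
theorem quotient_conj (hB : HasConj G) (M : Subgroup G) [M.Normal] (hM : Good M)
    (A B : Subgroup (G ⧸ M)) (hA : IsMulCommutative A) (hB' : IsMulCommutative B)
    (h : Nat.card A = Nat.card B) : ∃ g : G ⧸ M, B = A.map (MulAut.conj g).toMonoidHom := by
  obtain ⟨A₀, hA₀, hfA⟩ := exists_supplement M A
  obtain ⟨B₀, hB₀, hfB⟩ := exists_supplement M B
  obtain ⟨hcA, hAc⟩ := supplement_spec M hM A hA A₀ hA₀ hfA
  obtain ⟨hcB, hBc⟩ := supplement_spec M hM B hB' B₀ hB₀ hfB
  have hcard : Nat.card A₀ = Nat.card B₀ := by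
    refine Nat.eq_of_factorization_eq Nat.card_pos.ne' Nat.card_pos.ne' fun s => ?_
    by_cases hs : s.Prime
    · rw [hcA s hs, hcB s hs, h]
    · rw [Nat.factorization_eq_zero_of_not_prime _ hs, Nat.factorization_eq_zero_of_not_prime _ hs]
  obtain ⟨g, hg⟩ := hB A₀ B₀ hAc hBc hcard
  refine ⟨QuotientGroup.mk' M g, ?_⟩
  rw [← hB₀, ← hA₀, hg, Subgroup.map_map, Subgroup.map_map]
  congr 1

end Cfsg.Agent.AbelianConj
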