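import Cfsg.Agent.Lib.AbelianConj.Quotient
import Cfsg.Agent.Lib.Coprime.SchurZassenhaus
import Cfsg.Agent.Lib.Coprime.Generation

/-!
Lifting conjugacy of subgroups of equal order.
-/

set_option autoImplicit false
set_option linter.unusedSectionVars false

namespace Cfsg.Agent.AbelianConj

open Subgroup
open Cfsg.Agent.Lib

universe u

variable {G : Type u} [Group G] [Finite G]

variable (G) in
/-- Subgroups of equal order are conjugate. -/
def SameConj : Prop := ∀ A B : Subgroup G, Nat.card A = Nat.card B →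
  ∃ g : G, B = A.map (MulAut.conj g).toMonoidHom

variable (G) in
/-- Commuting elements of order `r` generate the same subgroup. -/
def OneSub (r : ℕ) : Prop :=
  ∀ a b : G, orderOf a = r → orderOf b = r → Commute a b → a ∈ zpowers b

lemma map_conj_map (A : Subgroup G) (g h : G) :
    (A.map (MulAut.conj g).toMonoidHom).map (MulAut.conj h).toMonoidHom =
      A.map (MulAut.conj (h * g)).toMonoidHom := by
  rw [Subgroup.map_map]
  congr 1
  ext w; simp [mul_assoc]

lemma card_map_conj (A : Subgroup G) (g : G) :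
    Nat.card (A.map (MulAut.conj g).toMonoidHom) = Nat.card A :=
  (Nat.card_congr (equivMapOfInjective A (MulAut.conj g).toMonoidHom
    (MulEquiv.injective _)).toEquiv).symm

lemma map_conj_eq_self {A : Subgroup G} {g : G} (hg : g ∈ normalizer (A : Set G)) :
    A.map (MulAut.conj g).toMonoidHom = A := by
  refine eq_of_le_of_card_ge ?_ (card_map_conj A g).ge
  rintro _ ⟨a, ha, rfl⟩
  exact (mem_normalizer_iff.mp hg a).mp ha

lemma mem_normalizer_of_map_conj {A : Subgroup G} {g : G}
    (h : A.map (MulAut.conj g).toMonoidHom = A) : g ∈ normalizer (A : Set G) := by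
  rw [mem_normalizer_iff]
  intro a
  constructor
  · intro ha
    exact h ▸ mem_map_of_mem (MulAut.conj g).toMonoidHom ha
  · intro ha
    rw [← h] at ha
    obtain ⟨b, hb, hba⟩ := ha
    have hba' : MulAut.conj g b = MulAut.conj g a := hba
    exact (MulAut.conj g).injective hba' ▸ hb

/-- Two subgroups with the same intersection and join with a coprime normal subgroup. -/
theorem exists_conj_of_inf_eq {N A B : Subgroup G} [N.Normal] (hNs : Group.IsSolvable N)
    (hD : A ⊓ N = B ⊓ N) (hn : N ≤ normalizer ((A ⊓ N : Subgroup G) : Set G))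
    (hsup : A ⊔ N = B ⊔ N) (hcop : (Nat.card N).Coprime ((A ⊓ N).relIndex A))
    (hcard : Nat.card A = Nat.card B) : ∃ g : G, B = A.map (MulAut.conj g).toMonoidHom := by
  set D := A ⊓ N with hDdef
  have comp : ∀ X : Subgroup G, D ≤ X → X ⊓ N = D → Nat.card X = Nat.card A →
      ∃ X₁ : Subgroup G, X₁ ≤ X ∧ D ⊔ X₁ = X ∧ Nat.card X₁ = D.relIndex A := by
    intro X hDX hXN hXc
    have h1 : Nat.card D * D.relIndex X = Nat.card X := by
      rw [← Nat.card_congr (subgroupOfEquivOfLe hDX).toEquiv]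
      exact card_mul_index _
    have h2 : Nat.card D * D.relIndex A = Nat.card A := by
      rw [← Nat.card_congr (subgroupOfEquivOfLe (inf_le_left : D ≤ A)).toEquiv]
      exact card_mul_index _
    have hrel : D.relIndex X = D.relIndex A :=
      Nat.eq_of_mul_eq_mul_left (Nat.card_pos (α := D)) (by rw [h1, h2, hXc])
    haveI : (D.subgroupOf X).Normal := by
      rw [← hXN, inf_subgroupOf_left]
      infer_instance
    obtain ⟨C, hC⟩ := exists_right_complement'_of_coprime (N := D.subgroupOf X) (by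
      show (Nat.card (D.subgroupOf X)).Coprime (D.relIndex X)
      rw [hrel, Nat.card_congr (subgroupOfEquivOfLe hDX).toEquiv]
      exact hcop.coprime_dvd_left (card_dvd_of_le inf_le_right))
    refine ⟨C.map X.subtype, map_subtype_le C, ?_, ?_⟩
    · conv_lhs => rw [← map_subgroupOf_eq_of_le hDX]
      rw [← Subgroup.map_sup, hC.sup_eq_top, ← MonoidHom.range_eq_map, range_subtype]
    · rw [← Nat.card_congr (equivMapOfInjective C X.subtype X.subtype_injective).toEquiv,
        ← hC.symm.index_eq_card]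
      exact hrel
  obtain ⟨A₁, hA₁, hA₁s, hA₁c⟩ := comp A inf_le_left rfl rfl
  obtain ⟨B₁, hB₁, hB₁s, hB₁c⟩ := comp B (hD ▸ inf_le_left) hD.symm hcard.symm
  obtain ⟨n, hnN, hnc⟩ := Coprime.exists_conj_eq_of_le_sup (N := N) (H := A₁) (K := B₁)
    Subgroup.le_normalizer_of_normal (by rw [hA₁c]; exact hcop) (Or.inl hNs)
    (by rw [hA₁c, hB₁c]) (by
      refine hB₁.trans (le_sup_left.trans (hsup.symm.le.trans (sup_le ?_ le_sup_left)))
      rw [← hA₁s]
      exact sup_le (le_sup_of_le_left inf_le_right) le_sup_right)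
  refine ⟨n, ?_⟩
  rw [← hA₁s, ← hB₁s, Subgroup.map_sup, map_conj_eq_self (hn hnN), ← hnc]
  congr 1

/-- Descending along a normal subgroup of prime order which contains all elements of that order. -/
theorem conj_of_unique_normal {N : Subgroup G} [N.Normal] {r : ℕ} (hr : r.Prime)
    (hN : Nat.card N = r) (hall : ∀ x : G, orderOf x = r → x ∈ N) (hQ : SameConj (G ⧸ N)) :
    SameConj G := by
  classical
  haveI := Fact.mk hr
  intro A B hcard
  have hmem : ∀ X : Subgroup G, r ∣ Nat.card X → N ≤ X := by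
    intro X hX
    obtain ⟨⟨x, hx⟩, hxo⟩ := exists_prime_orderOf_dvd_card' (G := X) r hX
    rw [Subgroup.orderOf_mk] at hxo
    have : zpowers x = N := eq_of_le_of_card_ge (zpowers_le.mpr (hall x hxo))
      (by rw [Nat.card_zpowers, hxo, hN])
    exact this ▸ zpowers_le.mpr hx
  have hnot : ∀ X : Subgroup G, ¬ r ∣ Nat.card X → X ⊓ N = ⊥ := by
    intro X hX
    rw [← card_eq_one]
    refine Nat.eq_one_of_dvd_coprimes ?_ (card_dvd_of_le inf_le_left)
      (hN ▸ card_dvd_of_le inf_le_right)
    exact ((hr.coprime_iff_not_dvd).mpr hX).symm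
  set π := QuotientGroup.mk' N with hπ
  have himg : ∀ X : Subgroup G, Nat.card (X.map π) * Nat.card (X ⊓ N : Subgroup G) = Nat.card X := by
    intro X
    have h1 := Coprime.card_sup_mul_card_inf (N := N) (H := X) Subgroup.le_normalizer_of_normal
    have h2 : Nat.card (X.map π) * Nat.card N = Nat.card (N ⊔ X : Subgroup G) := by
      have h3 : (X.map π).comap π = N ⊔ X := by
        rw [comap_map_eq, hπ, QuotientGroup.ker_mk', sup_comm]
      rw [← h3]
      have h4 := relIndex_comap (H := (⊥ : Subgroup (G ⧸ N))) π ((X.map π).comap π)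
      rw [map_comap_eq_self_of_surjective (QuotientGroup.mk'_surjective N), relIndex_bot_left,
        MonoidHom.comap_bot, hπ, QuotientGroup.ker_mk'] at h4
      rw [← h4, ← Nat.card_congr (subgroupOfEquivOfLe (show N ≤ (X.map π).comap π from
        fun n hn => by
          rw [mem_comap, hπ, QuotientGroup.mk'_apply, (QuotientGroup.eq_one_iff n).mpr hn]
          exact Subgroup.one_mem _)).toEquiv, mul_comm]
      exact card_mul_index _
    rw [← h2, inf_comm N X, mul_right_comm, mul_comm (Nat.card N)] at h1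
    exact Nat.eq_of_mul_eq_mul_right Nat.card_pos h1
  have hDc : Nat.card (A ⊓ N : Subgroup G) = Nat.card (B ⊓ N : Subgroup G) := by
    by_cases hA : r ∣ Nat.card A
    · rw [inf_eq_right.mpr (hmem A hA), inf_eq_right.mpr (hmem B (hcard ▸ hA))]
    · rw [hnot A hA, hnot B (hcard ▸ hA)]
  obtain ⟨g, hg⟩ := hQ (A.map π) (B.map π) (by
    have h1 := himg A
    rw [hDc, hcard, ← himg B] at h1
    exact Nat.eq_of_mul_eq_mul_right Nat.card_pos h1)
  obtain ⟨g, rfl⟩ := QuotientGroup.mk'_surjective N g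
  set A' := A.map (MulAut.conj g).toMonoidHom with hA'
  have hA'c : Nat.card A' = Nat.card B := (card_map_conj A g).trans hcard
  have hsup : A' ⊔ N = B ⊔ N := by
    have h1 : A'.map π = B.map π := by
      rw [hg, hA', Subgroup.map_map, Subgroup.map_map]
      congr 1
    have h2 := congrArg (Subgroup.comap π) h1
    rwa [comap_map_eq, comap_map_eq, hπ, QuotientGroup.ker_mk'] at h2
  suffices ∃ h : G, B = A'.map (MulAut.conj h).toMonoidHom by
    obtain ⟨h, hh⟩ := this
    exact ⟨h * g, by rw [hh, hA', map_conj_map]⟩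
  by_cases hA : r ∣ Nat.card A'
  · have h1 := sup_eq_left.mpr (hmem A' hA)
    have h2 := sup_eq_left.mpr (hmem B (hA'c ▸ hA))
    refine ⟨1, ?_⟩
    rw [map_conj_eq_self (Subgroup.one_mem _), ← h1, hsup, h2]
  · have hbot := hnot A' hA
    refine exists_conj_of_inf_eq (N := N) ?_ (by rw [hbot, hnot B (hA'c ▸ hA)]) ?_ hsup ?_ hA'c
    · haveI := isCyclic_of_prime_card hN
      exact Group.isSolvable_of_comm fun a b => by
        obtain ⟨w, hw⟩ := IsCyclic.exists_generator (α := N)
        obtain ⟨i, rfl⟩ := mem_zpowers_iff.mp (hw a)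
        obtain ⟨j, rfl⟩ := mem_zpowers_iff.mp (hw b)
        rw [← zpow_add, ← zpow_add, add_comm]
    · rw [hbot]
      intro n _
      rw [mem_normalizer_iff]
      intro a
      simp
    · rw [hbot, relIndex_bot_left, hN]
      exact (hr.coprime_iff_not_dvd).mpr hA

/-- An elementary abelian subgroup of order `r ^ 2` from two independent commuting elements. -/
lemma elementary_sq {r : ℕ} (hr : r.Prime) {a b : G} (ha : orderOf a = r) (hb : orderOf b = r)
    (hab : Commute a b) (hne : a ∉ zpowers b) :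
    IsMulCommutative (zpowers a ⊔ zpowers b : Subgroup G) ∧
      (∀ v ∈ zpowers a ⊔ zpowers b, v ^ r = 1) ∧
      Nat.card (zpowers a ⊔ zpowers b : Subgroup G) = r ^ 2 := by
  have hn : zpowers b ≤ normalizer ((zpowers a : Subgroup G) : Set G) := by
    rw [zpowers_le, mem_normalizer_iff]
    intro x
    constructor
    · intro hx
      obtain ⟨i, rfl⟩ := mem_zpowers_iff.mp hx
      rw [((hab.zpow_left i).symm.eq), mul_inv_cancel_right]
      exact zpow_mem_zpowers a i
    · intro hx
      obtain ⟨i, hi⟩ := mem_zpowers_iff.mp hx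
      have : x = a ^ i := by
        have h1 : b * x * b⁻¹ = b * a ^ i * b⁻¹ := by
          rw [(hab.zpow_left i).symm.eq, mul_inv_cancel_right, hi]
        exact mul_left_cancel (mul_right_cancel h1)
      rw [this]; exact zpow_mem_zpowers a i
  have hform : ∀ v ∈ zpowers a ⊔ zpowers b, ∃ i j : ℤ, v = a ^ i * b ^ j := by
    intro v hv
    rw [← SetLike.mem_coe, Subgroup.coe_mul_of_right_le_normalizer_left _ _ hn] at hv
    obtain ⟨x, hx, y, hy, rfl⟩ := hv
    obtain ⟨i, rfl⟩ := mem_zpowers_iff.mp hx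
    obtain ⟨j, rfl⟩ := mem_zpowers_iff.mp hy
    exact ⟨i, j, rfl⟩
  refine ⟨⟨⟨fun u v => Subtype.ext ?_⟩⟩, ?_, ?_⟩
  · obtain ⟨i, j, hu⟩ := hform u u.2
    obtain ⟨k, l, hv⟩ := hform v v.2
    show (u : G) * v = v * u
    rw [hu, hv]
    have h1 : Commute (a ^ i * b ^ j) (a ^ k * b ^ l) :=
      Commute.mul_right (Commute.mul_left ((Commute.refl a).zpow_zpow i k)
        ((hab.symm).zpow_zpow j k)) (Commute.mul_left (hab.zpow_zpow i l)
          ((Commute.refl b).zpow_zpow j l))
    exact h1.eq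
  · intro v hv
    obtain ⟨i, j, rfl⟩ := hform v hv
    have ha1 : (a ^ i) ^ r = 1 := by
      rw [← zpow_natCast, zpow_comm, zpow_natCast, ← ha, pow_orderOf_eq_one, one_zpow]
    have hb1 : (b ^ j) ^ r = 1 := by
      rw [← zpow_natCast, zpow_comm, zpow_natCast, ← hb, pow_orderOf_eq_one, one_zpow]
    rw [(hab.zpow_zpow i j).mul_pow, ha1, hb1, one_mul]
  · have h1 := Coprime.card_sup_mul_card_inf (N := zpowers a) (H := zpowers b) hn
    have hinf : (zpowers a ⊓ zpowers b : Subgroup G) = ⊥ := by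
      by_contra h0
      have h2 : Nat.card (zpowers a ⊓ zpowers b : Subgroup G) = Nat.card (zpowers a) := by
        have h3 := card_dvd_of_le (inf_le_left : zpowers a ⊓ zpowers b ≤ zpowers a)
        rw [Nat.card_zpowers, ha] at h3 ⊢
        exact ((Nat.dvd_prime hr).mp h3).resolve_left fun h => h0 (card_eq_one.mp h)
      have h4 := eq_of_le_of_card_ge (inf_le_left : zpowers a ⊓ zpowers b ≤ zpowers a) h2.ge
      exact hne (inf_eq_left.mp h4 (mem_zpowers a))
    rw [hinf, Subgroup.card_bot, mul_one, Nat.card_zpowers, Nat.card_zpowers, ha, hb, ← sq] at h1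
    exact h1

/-- In a `r`-subgroup the `OneSub` condition gives a unique subgroup of order `r`. -/
lemma OneSub.unique {r : ℕ} [Fact r.Prime] (h : OneSub G r) {S : Subgroup G} (hS : IsPGroup r S)
    (a b : S) (ha : orderOf a = r) (hb : orderOf b = r) : a ∈ zpowers b := by
  have hr : r.Prime := Fact.out
  haveI : Nontrivial S := ⟨⟨a, 1, fun e => by rw [e, orderOf_one] at ha; exact hr.ne_one ha.symm⟩⟩
  haveI := hS.center_nontrivial
  obtain ⟨k, hk⟩ := IsPGroup.iff_card.mp (hS.to_subgroup (center S))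
  have hk0 : k ≠ 0 := by
    rintro rfl
    have := Finite.one_lt_card (α := center S)
    rw [pow_zero] at hk
    omega
  obtain ⟨⟨c, hc⟩, hco⟩ := exists_prime_orderOf_dvd_card' (G := center S) r
    (hk ▸ dvd_pow_self r hk0)
  rw [Subgroup.orderOf_mk] at hco
  have hx : ∀ x : S, orderOf x = r → x ∈ zpowers c := fun x hxo => by
    have h1 := h (x : G) (c : G) (by rw [Subgroup.orderOf_coe, hxo]) (by rw [Subgroup.orderOf_coe, hco])
      (congrArg Subtype.val (mem_center_iff.mp hc x))
    obtain ⟨i, hi⟩ := mem_zpowers_iff.mp h1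
    exact mem_zpowers_iff.mpr ⟨i, Subtype.ext (by rw [← hi, SubgroupClass.coe_zpow])⟩
  have hbc : zpowers b = zpowers c := eq_of_le_of_card_ge (zpowers_le.mpr (hx b hb))
    (by rw [Nat.card_zpowers, Nat.card_zpowers, hb, hco])
  exact hbc ▸ hx a ha

/-- A noncyclic elementary subgroup makes `N` a complete component. -/
theorem structure_prime (hsol : Group.IsSolvable G) (hB : HasConj G) {r : ℕ} (hr : r.Prime) :
    OneSub G r ∨ ∃ M : Subgroup G, M.Normal ∧ IsMulCommutative M ∧ IsPGroup r M ∧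
      (∀ x : G, (∃ k, orderOf x = r ^ k) → x ∈ M) ∧ ∀ x ∈ M, x ^ r = 1 := by
  obtain ⟨n, hn⟩ : ∃ n, Nat.card G = n := ⟨_, rfl⟩
  induction n using Nat.strong_induction_on generalizing G with
  | _ n ih =>
  classical
  haveI := Fact.mk hr
  by_cases hone : OneSub G r
  · exact Or.inl hone
  simp only [OneSub, not_forall] at hone
  obtain ⟨a, b, ha, hb, hab, hne⟩ := hone
  obtain ⟨hVc, hVe, hVcard⟩ := elementary_sq hr ha hb hab hne
  set V := zpowers a ⊔ zpowers b
  haveI : Nontrivial G := ⟨⟨a, 1, fun e => by rw [e, orderOf_one] at ha; exact hr.ne_one ha.symm⟩⟩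
  obtain ⟨q, N, hq, hNn, hN0, -, hNc, hNp, hNe⟩ :=
    Coprime.exists_normal_abelian_pgroup_le (N := (⊤ : Subgroup G)) top_ne_bot inferInstance
  haveI := hNn
  haveI := Fact.mk hq
  obtain ⟨l, hl⟩ := IsPGroup.iff_card.mp hNp
  by_cases hqr : q = r
  · subst hqr
    have hl0 : l ≠ 0 := fun h => hN0 (card_eq_one.mp (by rw [hl, h, pow_zero]))
    have hall := all_mem_of_elementary hB N hr (hl ▸ dvd_pow_self q hl0) V hVc hVe hVcard
    exact Or.inr ⟨N, hNn, hNc, hNp, hall, hNe⟩
  have hNr : ¬ r ∣ Nat.card N := fun h => by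
    rw [hl] at h
    exact hqr ((Nat.prime_dvd_prime_iff_eq hr hq).mp (hr.dvd_of_dvd_pow h)).symm
  set π := QuotientGroup.mk' N with hπ
  have hQlt : Nat.card (G ⧸ N) < n := hn ▸ Cfsg.Agent.Lib.Solvable.Carter.card_quotient_lt hN0
  have hcopN : ∀ x : G, (∃ k, orderOf x = r ^ k) → x ∈ N → x = 1 := fun x ⟨k, hk⟩ hx => by
    rw [← orderOf_eq_one_iff]
    refine Nat.eq_one_of_dvd_coprimes (a := r ^ k) (b := Nat.card N) ?_ (dvd_of_eq hk) ?_
    · exact Nat.Coprime.pow_left _ ((hr.coprime_iff_not_dvd).mpr hNr)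
    · have := orderOf_dvd_natCard (⟨x, hx⟩ : N)
      rwa [Subgroup.orderOf_mk] at this
  have hVN : ∀ v ∈ V, v ∈ N → v = 1 := fun v hv hvN => by
    obtain ⟨j, -, hj⟩ := (Nat.dvd_prime_pow hr).mp (show orderOf v ∣ r ^ 1 by
      rw [pow_one]; exact orderOf_dvd_of_pow_eq_one (hVe v hv))
    exact hcopN v ⟨j, hj⟩ hvN
  have hQ1 : ¬ OneSub (G ⧸ N) r := by
    intro h
    have ho : ∀ x ∈ V, orderOf x = r → orderOf (π x) = r := fun x hx hxo => by
      refine ((Nat.dvd_prime hr).mp (hxo ▸ orderOf_map_dvd π x)).resolve_left fun h1 => ?_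
      rw [orderOf_eq_one_iff, hπ, QuotientGroup.mk'_apply, QuotientGroup.eq_one_iff] at h1
      rw [hVN x hx h1, orderOf_one] at hxo
      exact hr.ne_one hxo.symm
    obtain ⟨i, hi⟩ := mem_zpowers_iff.mp (h (π a) (π b) (ho a (mem_sup_left (mem_zpowers a)) ha)
      (ho b (mem_sup_right (mem_zpowers b)) hb) (hab.map π))
    rw [← map_zpow, hπ, QuotientGroup.mk'_apply, QuotientGroup.mk'_apply, QuotientGroup.eq] at hi
    have h2 := hVN _ (V.mul_mem (V.inv_mem (V.zpow_mem (mem_sup_right (mem_zpowers b)) i))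
      (mem_sup_left (mem_zpowers a))) hi
    rw [inv_mul_eq_one] at h2
    exact hne (h2 ▸ zpow_mem_zpowers b i)
  obtain ⟨M₀, hM₀n, hM₀c, hM₀p, hM₀all, hM₀e⟩ := (ih _ hQlt (G := G ⧸ N) inferInstance
    (hasConj_quotient _ G rfl hsol hB N) rfl).resolve_left hQ1
  set M := M₀.comap π with hM
  haveI : M.Normal := hM₀n.comap π
  have hallM : ∀ x : G, (∃ k, orderOf x = r ^ k) → x ∈ M := fun x ⟨k, hk⟩ => by
    obtain ⟨j, -, hj⟩ := (Nat.dvd_prime_pow hr).mp (hk ▸ orderOf_map_dvd π x)
    exact hM₀all _ ⟨j, hj⟩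
  obtain ⟨P, hVP⟩ := (IsPGroup.of_card hVcard : IsPGroup r V).exists_le_sylow
  have hPord : ∀ x ∈ (P : Subgroup G), ∃ k, orderOf x = r ^ k := fun x hx => by
    obtain ⟨k, hk⟩ := IsPGroup.iff_orderOf.mp P.isPGroup' ⟨x, hx⟩
    rw [Subgroup.orderOf_mk] at hk
    exact ⟨k, hk⟩
  have hPinj : ∀ x ∈ (P : Subgroup G), π x = 1 → x = 1 := fun x hx h =>
    hcopN x (hPord x hx) ((QuotientGroup.eq_one_iff x).mp h)
  -- `V` has a nontrivial fixed point subgroup on `N`
  have hVnc : ¬ IsCyclic V := by
    intro hcyc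
    obtain ⟨⟨w, hw⟩, hgen⟩ := IsCyclic.exists_generator (α := V)
    have h1 : Nat.card V = orderOf w := by
      rw [← Subgroup.orderOf_mk w hw, ← Nat.card_zpowers, (Subgroup.eq_top_iff' _).mpr hgen, Subgroup.card_top]
    rw [hVcard] at h1
    have := Nat.le_of_dvd hr.pos (h1 ▸ orderOf_dvd_of_pow_eq_one (hVe w hw))
    nlinarith [hr.two_le]
  have hcopV : (Nat.card V).Coprime (Nat.card N) := by
    rw [hVcard]
    exact Nat.Coprime.pow_left _ ((hr.coprime_iff_not_dvd).mpr hNr)
  have hex : ∃ u ∈ V, u ≠ 1 ∧ ∃ v ∈ N, v ≠ 1 ∧ u * v = v * u := by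
    by_contra! hcon
    apply hN0
    rw [eq_bot_iff, ← Coprime.iSup_centralizer_eq (A := V) (K := N) hVnc
      Subgroup.le_normalizer_of_normal hcopV]
    refine iSup₂_le fun u hu v hv => mem_bot.mpr (by_contra fun hv1 => ?_)
    exact hcon u hu.1 hu.2 v hv.1 hv1 (mem_centralizer_singleton_iff.mp hv.2).symm
  obtain ⟨u, huV, hu1, v, hvN, hv1, huv⟩ := hex
  have huP : u ∈ (P : Subgroup G) := hVP huV
  have huo : orderOf u = r := orderOf_eq_prime (hVe u huV) hu1
  have hqo : ∀ x ∈ N, x ≠ 1 → orderOf x = q := fun x hx hx1 => orderOf_eq_prime (hNe x hx) hx1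
  let C : G → Subgroup G := fun w => (P : Subgroup G) ⊓ centralizer {w}
  -- all fixed point subgroups have the same order
  have hconst : ∀ w ∈ N, w ≠ 1 → Nat.card (C w) = Nat.card (C v) := by
    have hkey : ∀ w₁ ∈ N, w₁ ≠ 1 → ∀ w₂ ∈ N, w₂ ≠ 1 → Nat.card (C w₁) ≤ Nat.card (C w₂) := by
      intro w₁ h1 h1' w₂ h2 h2'
      obtain ⟨g, hg⟩ := hB (zpowers w₁) (zpowers w₂) inferInstance inferInstance
        (by rw [Nat.card_zpowers, Nat.card_zpowers, hqo w₁ h1 h1', hqo w₂ h2 h2'])
      have hle : (P : Subgroup G).map (MulAut.conj g).toMonoidHom ≤ M := by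
        rintro _ ⟨x, hx, rfl⟩
        exact ‹M.Normal›.conj_mem x (hallM x (hPord x hx)) g
      have hMP : M = N ⊔ (P : Subgroup G) := by
        refine le_antisymm (fun x hx => ?_) (sup_le (fun x hx => ?_) (fun x hx => hallM x (hPord x hx)))
        · have hQS : IsPGroup r ((P : Subgroup G).map π) := P.isPGroup'.map π
          obtain ⟨k, hk⟩ := IsPGroup.iff_orderOf.mp hM₀p ⟨π x, hx⟩
          let P' : Sylow r (G ⧸ N) := P.mapSurjective (QuotientGroup.mk'_surjective N)
          have hxP : π x ∈ (P' : Subgroup (G ⧸ N)) := by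
            obtain ⟨Q, hQ⟩ := hM₀p.exists_le_sylow
            obtain ⟨c, hc⟩ := MulAction.exists_smul_eq (G ⧸ N) P' Q
            have hQM : ((Q : Sylow r (G ⧸ N)) : Subgroup (G ⧸ N)) = M₀ := le_antisymm (fun y hy => by
              obtain ⟨i, hi⟩ := IsPGroup.iff_orderOf.mp Q.isPGroup' ⟨y, hy⟩
              rw [Subgroup.orderOf_mk] at hi
              exact hM₀all y ⟨i, hi⟩) hQ
            have hP'M : (P' : Subgroup (G ⧸ N)) = M₀ := by
              refine le_antisymm (fun y hy => ?_) ?_
              · obtain ⟨i, hi⟩ := IsPGroup.iff_orderOf.mp P'.isPGroup' ⟨y, hy⟩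
                rw [Subgroup.orderOf_mk] at hi
                exact hM₀all y ⟨i, hi⟩
              · refine (eq_of_le_of_card_ge ?_ ?_).ge
                · intro y hy
                  obtain ⟨i, hi⟩ := IsPGroup.iff_orderOf.mp P'.isPGroup' ⟨y, hy⟩
                  rw [Subgroup.orderOf_mk] at hi
                  exact hM₀all y ⟨i, hi⟩
                · rw [← hQM, P'.card_eq_multiplicity, Q.card_eq_multiplicity]
            rw [hP'M]; exact hx
          obtain ⟨y, hy, hyx⟩ := hxP
          have h4 : x * y⁻¹ ∈ N := by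
            rw [← QuotientGroup.eq_one_iff]
            show π (x * y⁻¹) = 1
            rw [map_mul, map_inv, hyx, mul_inv_cancel]
          have := Subgroup.mul_mem_sup h4 hy
          rwa [inv_mul_cancel_right] at this
        · show π x ∈ M₀
          rw [hπ, QuotientGroup.mk'_apply, (QuotientGroup.eq_one_iff x).mpr hx]
          exact M₀.one_mem
      obtain ⟨m, hm, hmc⟩ := Coprime.exists_conj_eq_of_le_sup (N := N) (H := (P : Subgroup G))
        (K := (P : Subgroup G).map (MulAut.conj g).toMonoidHom) Subgroup.le_normalizer_of_normal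
        (by
          obtain ⟨e, he⟩ := IsPGroup.iff_card.mp P.isPGroup'
          rw [he]
          exact Nat.Coprime.pow_right _ ((hr.coprime_iff_not_dvd).mpr hNr).symm)
        (Or.inl inferInstance) (card_map_conj _ g) (hMP ▸ hle)
      have hg' : (C w₁).map (MulAut.conj g).toMonoidHom ≤
          (C w₂).map (MulAut.conj m).toMonoidHom := by
        rintro _ ⟨x, hx, rfl⟩
        have hxg : MulAut.conj g x ∈ (P : Subgroup G).map (MulAut.conj g).toMonoidHom :=
          mem_map_of_mem (MulAut.conj g).toMonoidHom hx.1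
        rw [← hmc] at hxg
        obtain ⟨y, hy, hyx⟩ := hxg
        refine ⟨y, ⟨hy, mem_centralizer_singleton_iff.mpr ?_⟩, hyx⟩
        have hw2 : w₂ ∈ zpowers (MulAut.conj g w₁) := by
          have : w₂ ∈ (zpowers w₁).map (MulAut.conj g).toMonoidHom := hg ▸ mem_zpowers w₂
          rwa [MonoidHom.map_zpowers] at this
        obtain ⟨i, hi⟩ := mem_zpowers_iff.mp hw2
        have hc : Commute (MulAut.conj g x) w₂ := by
          rw [← hi]
          exact (Commute.map (mem_centralizer_singleton_iff.mp hx.2 : Commute x w₁)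
            (MulAut.conj g).toMonoidHom).zpow_right i
        have hmw : MulAut.conj m w₂ = w₂ := by
          rw [MulAut.conj_apply, show m * w₂ = w₂ * m from
            congrArg Subtype.val (hNc.is_comm.comm ⟨m, hm⟩ ⟨w₂, h2⟩), mul_inv_cancel_right]
        have hyx' : MulAut.conj m y = MulAut.conj g x := hyx
        rw [← hyx', ← hmw] at hc
        apply (MulAut.conj m).injective
        rw [map_mul, map_mul]
        exact hc.eq
      calc Nat.card (C w₁) = Nat.card ((C w₁).map (MulAut.conj g).toMonoidHom) := (card_map_conj _ g).symm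
        _ ≤ Nat.card ((C w₂).map (MulAut.conj m).toMonoidHom) :=
          Nat.le_of_dvd Nat.card_pos (card_dvd_of_le hg')
        _ = Nat.card (C w₂) := card_map_conj _ m
    exact fun w hw hw1 => le_antisymm (hkey w hw hw1 v hvN hv1) (hkey v hvN hv1 w hw hw1)
  have huC : u ∈ C v := mem_inf.mpr ⟨huP, mem_centralizer_singleton_iff.mpr huv⟩
  -- `P` is abelian
  have hPc : ∀ x ∈ (P : Subgroup G), ∀ y ∈ (P : Subgroup G), x * y = y * x := by
    intro x hx y hy
    have h1 := congrArg Subtype.val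
      (hM₀c.is_comm.comm ⟨π x, hallM x (hPord x hx)⟩ ⟨π y, hallM y (hPord y hy)⟩)
    have h2 : π (x * y) = π (y * x) := by rw [map_mul, map_mul]; exact h1
    have h3 := hPinj _ ((P : Subgroup G).mul_mem ((P : Subgroup G).inv_mem ((P : Subgroup G).mul_mem hy hx))
      ((P : Subgroup G).mul_mem hx hy)) (by rw [map_mul, map_inv, ← h2, inv_mul_cancel])
    rw [inv_mul_eq_one] at h3
    exact h3.symm
  -- the fixed point subgroup is the same for all vectors
  have hCall : ∀ w ∈ N, w ≠ 1 → C w = C v := by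
    intro w hw hw1
    by_cases hwv : v * w = 1
    · have : w = v⁻¹ := eq_inv_of_mul_eq_one_right hwv
      subst this
      refine le_antisymm (fun x hx => ?_) (fun x hx => ?_) <;>
        refine mem_inf.mpr ⟨hx.1, mem_centralizer_singleton_iff.mpr ?_⟩
      · exact ((Commute.inv_right_iff).mp (mem_centralizer_singleton_iff.mp hx.2 : Commute x v⁻¹)).eq
      · exact ((Commute.inv_right_iff).mpr (mem_centralizer_singleton_iff.mp hx.2 : Commute x v)).eq
    by_contra hne'
    -- some element fixes `v * w` but not `v`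
    have hle : C (v * w) ≤ C v ⊓ C w := by
      intro x hx
      have hxP := hx.1
      have hxc : Commute x (v * w) := mem_centralizer_singleton_iff.mp hx.2
      -- the element `e` is fixed by both centralizers
      set e := (x * v * x⁻¹) * v⁻¹ with he
      have hxv : x * v * x⁻¹ ∈ N := hNn.conj_mem v hvN x
      have heN : e ∈ N := N.mul_mem hxv (N.inv_mem hvN)
      have he' : e = w * (x * w * x⁻¹)⁻¹ := by
        have h1 : (x * v * x⁻¹) * (x * w * x⁻¹) = v * w := by
          rw [conj_mul, hxc.eq, mul_inv_cancel_right]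
        have h2 : x * v * x⁻¹ = v * w * (x * w * x⁻¹)⁻¹ := eq_mul_inv_of_mul_eq h1
        have h3 : v * w * (x * w * x⁻¹)⁻¹ * v⁻¹ = w * (x * w * x⁻¹)⁻¹ := by
          have hz := congrArg Subtype.val (hNc.is_comm.comm ⟨w * (x * w * x⁻¹)⁻¹,
            N.mul_mem hw (N.inv_mem (hNn.conj_mem w hw x))⟩ ⟨v⁻¹, N.inv_mem hvN⟩)
          calc v * w * (x * w * x⁻¹)⁻¹ * v⁻¹ = v * ((w * (x * w * x⁻¹)⁻¹) * v⁻¹) := by group
            _ = v * (v⁻¹ * (w * (x * w * x⁻¹)⁻¹)) := by rw [show (w * (x * w * x⁻¹)⁻¹) * v⁻¹ = v⁻¹ * (w * (x * w * x⁻¹)⁻¹) from hz]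
            _ = _ := by group
        rw [he, h2, h3]
      have hfix : ∀ y ∈ (P : Subgroup G), ∀ z, Commute y z → Commute y (x * z * x⁻¹) :=
        fun y hy z hyz => Commute.mul_right (Commute.mul_right (hPc y hy x hxP) hyz)
          (Commute.inv_right (hPc y hy x hxP))
      have he1 : e = 1 := by
        by_contra he1
        have hv' : C v ≤ C e := fun y hy => mem_inf.mpr ⟨hy.1, mem_centralizer_singleton_iff.mpr
          (Commute.mul_right (hfix y hy.1 v (mem_centralizer_singleton_iff.mp hy.2))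
            (Commute.inv_right (mem_centralizer_singleton_iff.mp hy.2))).eq⟩
        have hw' : C w ≤ C e := fun y hy => mem_inf.mpr ⟨hy.1, mem_centralizer_singleton_iff.mpr (by
          rw [he']
          exact (Commute.mul_right (mem_centralizer_singleton_iff.mp hy.2 : Commute y w)
            (Commute.inv_right (hfix y hy.1 w (mem_centralizer_singleton_iff.mp hy.2)))).eq)⟩
        have h1 := eq_of_le_of_card_ge hv' (hconst e heN he1).le
        have h2 := eq_of_le_of_card_ge hw' ((hconst e heN he1).trans (hconst w hw hw1).symm).le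
        exact hne' (h2.trans h1.symm)
      have hxv1 : x * v = v * x := by
        rw [he, mul_inv_eq_one, mul_inv_eq_iff_eq_mul] at he1
        exact he1
      have hxw : x * w = w * x := by
        rw [he', mul_inv_eq_one, eq_mul_inv_iff_mul_eq] at he1
        exact he1.symm
      exact mem_inf.mpr ⟨mem_inf.mpr ⟨hxP, mem_centralizer_singleton_iff.mpr hxv1⟩,
        mem_inf.mpr ⟨hxP, mem_centralizer_singleton_iff.mpr hxw⟩⟩
    have hc := hconst (v * w) (N.mul_mem hvN hw) hwv
    have h1 : C v ⊓ C w = C v := eq_of_le_of_card_ge inf_le_left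
      (hc ▸ Nat.le_of_dvd Nat.card_pos (card_dvd_of_le hle))
    exact hne' (eq_of_le_of_card_ge (inf_eq_left.mp h1) (hconst w hw hw1).le).symm
  have huN : u ∈ centralizer (N : Set G) := mem_centralizer_iff.mpr fun w hw => by
    by_cases hw1 : w = 1
    · simp [hw1]
    · exact (mem_centralizer_singleton_iff.mp ((hCall w hw hw1).symm ▸ huC : u ∈ C w).2).symm
  haveI : (centralizer (N : Set G)).Normal := ⟨fun x hx g => mem_centralizer_iff.mpr fun w hw => by
    have h1 : g⁻¹ * w * g ∈ N := by simpa using hNn.conj_mem w hw g⁻¹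
    have h2 := mem_centralizer_iff.mp hx _ h1
    apply mul_left_cancel (a := g⁻¹)
    apply mul_right_cancel (b := g)
    simpa [mul_assoc] using h2⟩
  have hPexp : ∀ x ∈ (P : Subgroup G), x ^ r = 1 := fun x hx =>
    hPinj _ ((P : Subgroup G).pow_mem hx r) (by rw [map_pow]; exact hM₀e _ (hallM x (hPord x hx)))
  have hPN : ∀ x ∈ (P : Subgroup G), x ∈ centralizer (N : Set G) := fun x hx => by
    by_cases hx1 : x = 1
    · exact hx1 ▸ Subgroup.one_mem _
    · obtain ⟨g, hg⟩ := hB (zpowers u) (zpowers x) inferInstance inferInstance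
        (by rw [Nat.card_zpowers, Nat.card_zpowers, huo, orderOf_eq_prime (hPexp x hx) hx1])
      exact mem_of_conj (zpowers_le.mpr huN) hg (mem_zpowers x)
  -- `P` is normal
  have hPn : ∀ x : G, (∃ k, orderOf x = r ^ k) → x ∈ (P : Subgroup G) := by
    intro x hx
    have hxM : π x ∈ M₀ := hallM x hx
    have hP' : M₀ = (P : Subgroup G).map π := by
      refine (eq_of_le_of_card_ge ?_ ?_).symm
      · rintro _ ⟨y, hy, rfl⟩
        exact hallM y (hPord y hy)
      · obtain ⟨Q, hQ⟩ := hM₀p.exists_le_sylow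
        have h1 : Nat.card M₀ ≤ Nat.card (Q : Subgroup (G ⧸ N)) := Nat.le_of_dvd Nat.card_pos (card_dvd_of_le hQ)
        rw [Q.card_eq_multiplicity, ← (P.mapSurjective (QuotientGroup.mk'_surjective N)).card_eq_multiplicity] at h1
        simpa [hπ] using h1
    rw [hP'] at hxM
    obtain ⟨y, hy, hyx⟩ := hxM
    obtain ⟨k, hk⟩ := hx
    set e := y⁻¹ * x with he
    have heN : e ∈ N := by
      rw [← QuotientGroup.eq_one_iff]
      show π (y⁻¹ * x) = 1
      rw [map_mul, map_inv, hyx, inv_mul_cancel]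
    have hc : Commute y e := (mem_centralizer_iff.mp (hPN y hy) e heN).symm
    have hxye : x = y * e := by rw [he, mul_inv_cancel_left]
    have he1 : e ^ r ^ (k + 1) = 1 := by
      have h1 : x ^ r ^ (k + 1) = 1 := by
        rw [pow_succ, pow_mul, ← hk, pow_orderOf_eq_one, one_pow]
      rw [hxye, hc.mul_pow, pow_succ', pow_mul, hPexp y hy, one_pow, one_mul] at h1
      rwa [pow_succ']
    obtain ⟨j, -, hj⟩ := (Nat.dvd_prime_pow hr).mp (orderOf_dvd_of_pow_eq_one he1)
    have := hcopN e ⟨j, hj⟩ heN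
    rw [hxye, this, mul_one]; exact hy
  refine Or.inr ⟨P, ⟨fun x hx g => hPn _ ?_⟩, ⟨⟨fun x y => Subtype.ext (hPc x x.2 y y.2)⟩⟩,
    P.isPGroup', hPn, hPexp⟩
  obtain ⟨k, hk⟩ := hPord x hx
  exact ⟨k, by rw [← MulAut.conj_apply, MulEquiv.orderOf_eq, hk]⟩

end Cfsg.Agent.AbelianConj
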