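import Cfsg.Agent.Lib.AbelianConj.Quat

/-!
In a solvable group with conjugate equal-order abelian subgroups all equal-order subgroups are
conjugate.
-/

set_option autoImplicit false
set_option linter.unusedSectionVars false

namespace Cfsg.Agent.AbelianConj

open Subgroup
open Cfsg.Agent.Lib

universe u

variable {G : Type u} [Group G] [Finite G]

/-- A normal abelian subgroup containing all elements of prime power order for each of its primes. -/
structure Full (F : Subgroup G) : Prop where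
  normal : F.Normal
  comm : IsMulCommutative F
  mem : ∀ r : ℕ, r.Prime → r ∣ Nat.card F → ∀ x : G, (∃ k, orderOf x = r ^ k) → x ∈ F ∧ x ^ r = 1

lemma exists_full (hsol : Group.IsSolvable G) (hB : HasConj G) :
    ∃ F : Subgroup G, Full F ∧ ∀ r : ℕ, r.Prime → ¬ r ∣ Nat.card F → OneSub G r := by
  classical
  obtain ⟨F, hF⟩ := Set.Finite.exists_maximal (Set.toFinite {F : Subgroup G | Full F})
    ⟨⊥, ⟨inferInstance, inferInstance, fun r hr h => by
      rw [Subgroup.card_bot, Nat.dvd_one] at h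
      exact absurd h hr.ne_one⟩⟩
  refine ⟨F, hF.1, fun r hr hrF => ?_⟩
  haveI := hF.1.normal
  haveI := Fact.mk hr
  rcases structure_prime hsol hB hr with h | ⟨M, hMn, hMc, hMp, hMall, hMe⟩
  · exact h
  obtain ⟨l, hl⟩ := IsPGroup.iff_card.mp hMp
  by_cases hl0 : l = 0
  · intro a b ha _ _
    have : a ∈ M := hMall a ⟨1, by rw [pow_one, ha]⟩
    rw [card_eq_one.mp (show Nat.card M = 1 by rw [hl, hl0, pow_zero]), mem_bot] at this
    rw [this, orderOf_one] at ha
    exact absurd ha.symm hr.ne_one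
  exfalso
  have hinf : F ⊓ M = ⊥ := by
    rw [← card_eq_one]
    refine Nat.eq_one_of_dvd_coprimes ?_ (card_dvd_of_le inf_le_left) (card_dvd_of_le inf_le_right)
    rw [hl]
    exact Nat.Coprime.pow_right _ ((hr.coprime_iff_not_dvd).mpr hrF).symm
  have hFM : ∀ f ∈ F, ∀ m ∈ M, f * m = m * f := fun f hf m hm =>
    Subgroup.commute_of_normal_of_disjoint F M hF.1.normal hMn (disjoint_iff.mpr hinf) f m hf hm
  have hsupc : IsMulCommutative (F ⊔ M : Subgroup G) := by
    refine le_centralizer_iff_isMulCommutative.mp (sup_le (le_centralizer_iff.mp (sup_le ?_ ?_))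
      (le_centralizer_iff.mp (sup_le ?_ ?_)))
    · exact le_centralizer_iff_isMulCommutative.mpr hF.1.comm
    · exact fun m hm => mem_centralizer_iff.mpr fun f hf => hFM f hf m hm
    · exact fun f hf => mem_centralizer_iff.mpr fun m hm => (hFM f hf m hm).symm
    · exact le_centralizer_iff_isMulCommutative.mpr hMc
  have hgood : Full (F ⊔ M) := by
    refine ⟨inferInstance, hsupc, fun s hs hsd x hx => ?_⟩
    have h1 := Coprime.card_sup_mul_card_inf (N := F) (H := M) Subgroup.le_normalizer_of_normal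
    rw [hinf, Subgroup.card_bot, mul_one] at h1
    rw [h1] at hsd
    rcases hs.dvd_mul.mp hsd with h | h
    · obtain ⟨h2, h3⟩ := hF.1.mem s hs h x hx
      exact ⟨mem_sup_left h2, h3⟩
    · rw [hl] at h
      obtain rfl := (Nat.prime_dvd_prime_iff_eq hs hr).mp (hs.dvd_of_dvd_pow h)
      exact ⟨mem_sup_right (hMall x hx), hMe x (hMall x hx)⟩
  have hMF : M ≤ F := le_sup_right.trans (hF.2 hgood le_sup_left)
  exact hrF ((dvd_pow_self r hl0).trans (hl ▸ card_dvd_of_le hMF))

/-- The order of the intersection with a full subgroup. -/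
lemma Full.card_inf {F : Subgroup G} (hF : Full F) {A B : Subgroup G}
    (h : Nat.card A = Nat.card B) :
    Nat.card (A ⊓ F : Subgroup G) = Nat.card (B ⊓ F : Subgroup G) := by
  classical
  have key : ∀ (X : Subgroup G) (r : ℕ), r.Prime → (Nat.card (X ⊓ F : Subgroup G)).factorization r =
      if r ∣ Nat.card F then (Nat.card X).factorization r else 0 := by
    intro X r hr
    haveI := Fact.mk hr
    split_ifs with hrF
    · refine le_antisymm ((Nat.factorization_le_iff_dvd Nat.card_pos.ne' Nat.card_pos.ne').mpr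
        (card_dvd_of_le inf_le_left) r) ?_
      obtain ⟨S⟩ : Nonempty (Sylow r X) := inferInstance
      refine (hr.pow_dvd_iff_le_factorization Nat.card_pos.ne').mp ?_
      rw [← S.card_eq_multiplicity,
        Nat.card_congr (equivMapOfInjective (S : Subgroup X) X.subtype X.subtype_injective).toEquiv]
      refine card_dvd_of_le ?_
      rintro _ ⟨x, hx, rfl⟩
      obtain ⟨k, hk⟩ := IsPGroup.iff_orderOf.mp S.isPGroup' ⟨x, hx⟩
      rw [Subgroup.orderOf_mk, ← Subgroup.orderOf_coe] at hk
      exact ⟨x.2, (hF.mem r hr hrF _ ⟨k, hk⟩).1⟩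
    · exact Nat.factorization_eq_zero_of_not_dvd fun h' =>
        hrF (h'.trans (card_dvd_of_le inf_le_right))
  refine Nat.eq_of_factorization_eq Nat.card_pos.ne' Nat.card_pos.ne' fun r => ?_
  by_cases hr : r.Prime
  · rw [key A r hr, key B r hr, h]
  · rw [Nat.factorization_eq_zero_of_not_prime _ hr, Nat.factorization_eq_zero_of_not_prime _ hr]

/-- An element lies in a subgroup if the elements of prime power order do. -/
lemma le_of_primePow_mem {D Y : Subgroup G}
    (h : ∀ r : ℕ, r.Prime → ∀ x ∈ D, (∃ k, orderOf x = r ^ k) → x ∈ Y) : D ≤ Y := by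
  have h1 : D ⊓ Y = D := by
    refine eq_of_le_of_card_ge inf_le_left (Nat.le_of_dvd Nat.card_pos ?_)
    rw [← Nat.factorization_le_iff_dvd Nat.card_pos.ne' Nat.card_pos.ne']
    intro r
    by_cases hr : r.Prime
    swap
    · rw [Nat.factorization_eq_zero_of_not_prime _ hr]; exact Nat.zero_le _
    haveI := Fact.mk hr
    refine (hr.pow_dvd_iff_le_factorization Nat.card_pos.ne').mp ?_
    obtain ⟨S⟩ : Nonempty (Sylow r D) := inferInstance
    rw [← S.card_eq_multiplicity,
      Nat.card_congr (equivMapOfInjective (S : Subgroup D) D.subtype D.subtype_injective).toEquiv]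
    refine card_dvd_of_le ?_
    rintro _ ⟨x, hx, rfl⟩
    obtain ⟨k, hk⟩ := IsPGroup.iff_orderOf.mp S.isPGroup' ⟨x, hx⟩
    rw [Subgroup.orderOf_mk, ← Subgroup.orderOf_coe] at hk
    exact ⟨x.2, h r hr _ x.2 ⟨k, hk⟩⟩
  exact inf_eq_left.mp h1

/-- The elements of `D` outside the complete primes are centralised by the quaternion group. -/
lemma commute_partial (hB : HasConj G) {F D : Subgroup G} (hF : Full F) (hDF : D ≤ F)
    {P : Subgroup G} (hW : (F ⊔ P).Normal) (hPD : P ≤ normalizer (D : Set G))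
    {u v : G} (huP : u ∈ P) (hu : orderOf u = 4) (hv : orderOf v = 4) (huv : orderOf (u * v) = 4)
    (hgen : P ≤ closure {y : G | orderOf y = 4})
    {r : ℕ} (hr : r.Prime) {x : G} (hxD : x ∈ D) (hxr : ∃ k, orderOf x = r ^ k) {y : G}
    (hyr : ∃ k, orderOf y = r ^ k) (hyD : y ∉ D) : ∀ p ∈ P, p * x = x * p := by
  classical
  haveI := Fact.mk hr
  haveI := hF.normal
  haveI := hW
  by_cases hx1 : x = 1
  · intro p _; rw [hx1, mul_one, one_mul]
  have hrF : r ∣ Nat.card F := by
    obtain ⟨k, hk⟩ := hxr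
    have hk0 : k ≠ 0 := fun h => hx1 (by rwa [h, pow_zero, orderOf_eq_one_iff] at hk)
    have := orderOf_dvd_natCard (⟨x, hDF hxD⟩ : F)
    rw [Subgroup.orderOf_mk, hk] at this
    exact (dvd_pow_self r hk0).trans this
  have hmul : ∀ a ∈ F, ∀ b ∈ F, a * b = b * a := fun a ha b hb =>
    congrArg Subtype.val (hF.comm.is_comm.comm ⟨a, ha⟩ ⟨b, hb⟩)
  let R : Subgroup G :=
    { carrier := {w | w ∈ F ∧ w ^ r = 1}
      one_mem' := ⟨F.one_mem, one_pow r⟩
      mul_mem' := fun {a b} ha hb => ⟨F.mul_mem ha.1 hb.1, by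
        rw [(show Commute a b from hmul a ha.1 b hb.1).mul_pow, ha.2, hb.2, one_mul]⟩
      inv_mem' := fun {a} ha => ⟨F.inv_mem ha.1, by rw [inv_pow, ha.2, inv_one]⟩ }
  have hRmem : ∀ w : G, (∃ k, orderOf w = r ^ k) → w ∈ R := fun w hw => hF.mem r hr hrF w hw
  haveI hRn : R.Normal := ⟨fun w hw g => ⟨hF.normal.conj_mem w hw.1 g, by
    rw [conj_pow, hw.2, mul_one, mul_inv_cancel]⟩⟩
  have hRp : IsPGroup r R := fun w => ⟨1, Subtype.ext (by
    rw [pow_one, SubmonoidClass.coe_pow, OneMemClass.coe_one]; exact w.2.2)⟩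
  obtain ⟨n, hn⟩ := IsPGroup.iff_card.mp hRp
  set Dr := D ⊓ R with hDr
  obtain ⟨k, hk⟩ := IsPGroup.iff_card.mp (hRp.to_le (inf_le_right : Dr ≤ R))
  have hxDr : x ∈ Dr := mem_inf.mpr ⟨hxD, hRmem x hxr⟩
  have hk0 : k ≠ 0 := fun h => by
    rw [h, pow_zero, card_eq_one] at hk
    rw [hDr, hk, mem_bot] at hxDr
    exact hx1 hxDr
  have hkn : k < n := by
    by_contra hcon
    have : Dr = R := eq_of_le_of_card_ge inf_le_right
      (by rw [hn, hk]; exact Nat.pow_le_pow_right hr.pos (by omega))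
    exact hyD (inf_le_left (b := R) (this.symm ▸ hRmem y hyr : y ∈ Dr))
  -- complement of the `r`-part in `D`
  haveI : (Dr.subgroupOf D).Normal := by
    rw [hDr, inf_subgroupOf_left]; infer_instance
  have hcopD : (Nat.card (Dr.subgroupOf D)).Coprime (Dr.subgroupOf D).index := by
    rw [Nat.card_congr (subgroupOfEquivOfLe (inf_le_left : Dr ≤ D)).toEquiv, hk]
    refine Nat.Coprime.pow_left _ ((hr.coprime_iff_not_dvd).mpr fun hd => ?_)
    obtain ⟨S⟩ : Nonempty (Sylow r D) := inferInstance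
    refine S.not_dvd_index (hd.trans (index_dvd_of_le fun w hw => ?_))
    obtain ⟨i, hi⟩ := IsPGroup.iff_orderOf.mp S.isPGroup' ⟨w, hw⟩
    rw [Subgroup.orderOf_mk, ← Subgroup.orderOf_coe] at hi
    exact mem_inf.mpr ⟨w.2, hRmem _ ⟨i, hi⟩⟩
  obtain ⟨C₀, hC₀⟩ := exists_right_complement'_of_coprime hcopD
  set C := C₀.map D.subtype with hC
  have hCD : C ≤ D := map_subtype_le C₀
  have hCcop : ¬ r ∣ Nat.card C := by
    rw [hC, ← Nat.card_congr (equivMapOfInjective C₀ D.subtype D.subtype_injective).toEquiv,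
      ← hC₀.symm.index_eq_card]
    rw [Nat.card_congr (subgroupOfEquivOfLe (inf_le_left : Dr ≤ D)).toEquiv, hk] at hcopD
    exact (hr.coprime_iff_not_dvd).mp ((Nat.coprime_pow_left_iff (Nat.pos_of_ne_zero hk0) _ _).mp hcopD)
  have hDcard : Nat.card D = r ^ k * Nat.card C := by
    rw [hC, ← Nat.card_congr (equivMapOfInjective C₀ D.subtype D.subtype_injective).toEquiv,
      ← hC₀.card_mul_card, Nat.card_congr (subgroupOfEquivOfLe (inf_le_left : Dr ≤ D)).toEquiv, hk]
  have hWD : F ⊔ P ≤ normalizer (D : Set G) := by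
    refine sup_le (fun f hf => mem_normalizer_iff.mpr fun a => ?_) hPD
    constructor
    · intro ha
      rwa [hmul f hf a (hDF ha), mul_inv_cancel_right]
    · intro ha
      have h1 := hmul f hf _ (hDF ha)
      have h2 : f * a * f⁻¹ = a := by
        have h3 : f * (f * a * f⁻¹) * f⁻¹ = f * a * f⁻¹ := by rw [h1, mul_inv_cancel_right]
        exact mul_left_cancel (mul_right_cancel h3)
      rwa [h2] at ha
  -- subgroups of order `r ^ k` in `R`
  have hbase : ∀ E : Subgroup G, E ≤ R → Nat.card E = r ^ k → P ≤ normalizer (E : Set G) := by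
    intro E hER hE
    have hEF : E ≤ F := hER.trans fun w hw => hw.1
    have hCE : E ⊓ C = ⊥ := by
      rw [← card_eq_one]
      refine Nat.eq_one_of_dvd_coprimes ?_ (card_dvd_of_le inf_le_left) (card_dvd_of_le inf_le_right)
      rw [hE]
      exact Nat.Coprime.pow_left _ ((hr.coprime_iff_not_dvd).mpr hCcop)
    have hsupF : E ⊔ C ≤ F := sup_le hEF (hCD.trans hDF)
    have hCn : C ≤ normalizer (E : Set G) := fun c hc => mem_normalizer_iff.mpr fun a => by
      constructor
      · intro ha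
        rwa [hmul c (hDF (hCD hc)) a (hEF ha), mul_inv_cancel_right]
      · intro ha
        have h1 := hmul c (hDF (hCD hc)) _ (hEF ha)
        have h2 : c * a * c⁻¹ = a := by
          have h3 : c * (c * a * c⁻¹) * c⁻¹ = c * a * c⁻¹ := by rw [h1, mul_inv_cancel_right]
          exact mul_left_cancel (mul_right_cancel h3)
        rwa [h2] at ha
    have hcard := Coprime.card_sup_mul_card_inf (N := E) (H := C) hCn
    rw [hCE, Subgroup.card_bot, mul_one, hE, ← hDcard] at hcard
    have hcommD : IsMulCommutative D :=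
      ⟨⟨fun a b => Subtype.ext (hmul _ (hDF a.2) _ (hDF b.2))⟩⟩
    obtain ⟨g, hg⟩ := hB D (E ⊔ C) hcommD
      ⟨⟨fun a b => Subtype.ext (hmul _ (hsupF a.2) _ (hsupF b.2))⟩⟩ hcard.symm
    have hWE : F ⊔ P ≤ normalizer ((E ⊔ C : Subgroup G) : Set G) := by
      intro w hw
      refine mem_normalizer_of_map_conj ?_
      have h1 : g⁻¹ * w * g ∈ normalizer (D : Set G) :=
        hWD (by simpa using hW.conj_mem w hw g⁻¹)
      rw [hg, map_conj_map, show w * g = g * (g⁻¹ * w * g) by group, ← map_conj_map,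
        map_conj_eq_self h1]
    have hEeq : (E ⊔ C) ⊓ R = E := by
      refine (eq_of_le_of_card_ge (le_inf le_sup_left hER) ?_).symm
      obtain ⟨j, hj⟩ := IsPGroup.iff_card.mp (hRp.to_le (inf_le_right : (E ⊔ C) ⊓ R ≤ R))
      rw [hj, hE]
      refine Nat.pow_le_pow_right hr.pos ?_
      have h1 : r ^ j ∣ r ^ k * Nat.card C := by
        rw [← hDcard, ← hcard, ← hj]; exact card_dvd_of_le inf_le_left
      exact (Nat.pow_dvd_pow_iff_le_right hr.one_lt).mp
        ((Nat.Coprime.pow_left _ ((hr.coprime_iff_not_dvd).mpr hCcop)).dvd_of_dvd_mul_right h1)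
    intro p hp
    rw [← hEeq]
    refine mem_normalizer_of_map_conj ?_
    refine eq_of_le_of_card_ge ?_ (card_map_conj _ p).ge
    rintro _ ⟨a, ha, rfl⟩
    exact ⟨(mem_normalizer_iff.mp (hWE (mem_sup_right hp)) a).mp ha.1, hRn.conj_mem a ha.2 p⟩
  -- lines
  have hlines : ∀ w ∈ R, ∀ p ∈ P, p * w * p⁻¹ ∈ zpowers w := by
    have hext : ∀ (j : ℕ) (E : Subgroup G), E ≤ R → Nat.card E = r ^ j → ∀ z ∈ R, z ∉ E →
        Nat.card (E ⊔ zpowers z : Subgroup G) = r ^ (j + 1) := by
      intro j E hER hE z hz hzE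
      have hzo : orderOf z = r := orderOf_eq_prime hz.2 fun h => hzE (h ▸ E.one_mem)
      have hn' : zpowers z ≤ normalizer (E : Set G) := zpowers_le.mpr (mem_normalizer_iff.mpr fun a => by
        constructor
        · intro ha
          rwa [hmul z hz.1 a (hER ha).1, mul_inv_cancel_right]
        · intro ha
          have h1 := hmul z hz.1 _ (hER ha).1
          have h2 : z * a * z⁻¹ = a := by
            have h3 : z * (z * a * z⁻¹) * z⁻¹ = z * a * z⁻¹ := by rw [h1, mul_inv_cancel_right]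
            exact mul_left_cancel (mul_right_cancel h3)
          rwa [h2] at ha)
      have h1 := Coprime.card_sup_mul_card_inf (N := E) (H := zpowers z) hn'
      have hinf : E ⊓ zpowers z = ⊥ := by
        by_contra h0
        have h2 : Nat.card (E ⊓ zpowers z : Subgroup G) = r := by
          have h3 := card_dvd_of_le (inf_le_right : E ⊓ zpowers z ≤ zpowers z)
          rw [Nat.card_zpowers, hzo] at h3
          exact ((Nat.dvd_prime hr).mp h3).resolve_left fun h => h0 (card_eq_one.mp h)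
        have h4 := eq_of_le_of_card_ge (inf_le_right : E ⊓ zpowers z ≤ zpowers z)
          (by rw [Nat.card_zpowers, hzo, h2])
        exact hzE (inf_eq_right.mp h4 (mem_zpowers z))
      rw [hinf, Subgroup.card_bot, mul_one, hE, Nat.card_zpowers, hzo, ← pow_succ] at h1
      exact h1
    have hdown : ∀ d, d < k → ∀ E : Subgroup G, E ≤ R → Nat.card E = r ^ (k - d) →
        P ≤ normalizer (E : Set G) := by
      intro d
      induction d with
      | zero => intro _ E hER hE; exact hbase E hER hE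
      | succ d ihd =>
        intro hd E hER hE
        have hne1 : ¬ R ≤ E := fun h => by
          have h1 := card_dvd_of_le h
          rw [hn, hE] at h1
          have := (Nat.pow_dvd_pow_iff_le_right hr.one_lt).mp h1
          omega
        obtain ⟨a, haR, haE⟩ := SetLike.not_le_iff_exists.mp hne1
        have hE1 := hext _ E hER hE a haR haE
        rw [show k - (d + 1) + 1 = k - d by omega] at hE1
        set E₁ := E ⊔ zpowers a with hE₁
        have hE₁R : E₁ ≤ R := sup_le hER (zpowers_le.mpr haR)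
        have hne2 : ¬ R ≤ E₁ := fun h => by
          have h1 := card_dvd_of_le h
          rw [hn, hE1] at h1
          have := (Nat.pow_dvd_pow_iff_le_right hr.one_lt).mp h1
          omega
        obtain ⟨b, hbR, hbE⟩ := SetLike.not_le_iff_exists.mp hne2
        have hE2 := hext _ E hER hE b hbR (fun h => hbE (mem_sup_left h))
        rw [show k - (d + 1) + 1 = k - d by omega] at hE2
        set E₂ := E ⊔ zpowers b with hE₂
        have hE₂R : E₂ ≤ R := sup_le hER (zpowers_le.mpr hbR)
        have hEeq : E₁ ⊓ E₂ = E := by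
          refine (eq_of_le_of_card_ge (le_inf le_sup_left le_sup_left) ?_).symm
          obtain ⟨j, hj⟩ := IsPGroup.iff_card.mp (hRp.to_le (inf_le_left.trans hE₁R : E₁ ⊓ E₂ ≤ R))
          rw [hj, hE]
          refine Nat.pow_le_pow_right hr.pos ?_
          have hlt : Nat.card (E₁ ⊓ E₂ : Subgroup G) < Nat.card E₂ := by
            refine lt_of_le_of_ne (Nat.le_of_dvd Nat.card_pos (card_dvd_of_le inf_le_right)) fun h => ?_
            exact hbE ((inf_eq_right.mp (eq_of_le_of_card_ge inf_le_right h.ge))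
              (mem_sup_right (mem_zpowers b)))
          rw [hj, hE2] at hlt
          have := (Nat.pow_lt_pow_iff_right hr.one_lt).mp hlt
          omega
        intro p hp
        rw [← hEeq]
        refine mem_normalizer_of_map_conj ?_
        refine eq_of_le_of_card_ge ?_ (card_map_conj _ p).ge
        rintro _ ⟨w, hw, rfl⟩
        exact ⟨(mem_normalizer_iff.mp (ihd (by omega) E₁ hE₁R hE1 hp) w).mp hw.1,
          (mem_normalizer_iff.mp (ihd (by omega) E₂ hE₂R hE2 hp) w).mp hw.2⟩
    intro w hw p hp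
    by_cases hw1 : w = 1
    · simp [hw1]
    have h1 := hdown (k - 1) (by omega) (zpowers w) (zpowers_le.mpr hw) (by
      rw [Nat.card_zpowers, orderOf_eq_prime hw.2 hw1, show k - (k - 1) = 1 by omega, pow_one])
    exact (mem_normalizer_iff.mp (h1 hp) w).mp (mem_zpowers w)
  -- the action is by a uniform power
  have hscal : ∀ p ∈ P, ∃ a : ℤ, ∀ w ∈ R, p * w * p⁻¹ = w ^ a := by
    intro p hp
    have hx0 : x ∈ R := (mem_inf.mp hxDr).2
    obtain ⟨a, ha⟩ := mem_zpowers_iff.mp (hlines x hx0 p hp)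
    refine ⟨a, fun w hw => ?_⟩
    by_cases hwx : w ∈ zpowers x
    · obtain ⟨i, rfl⟩ := mem_zpowers_iff.mp hwx
      rw [← conj_zpow, ← ha, ← zpow_mul, ← zpow_mul, mul_comm]
    obtain ⟨b, hb⟩ := mem_zpowers_iff.mp (hlines w hw p hp)
    obtain ⟨c, hc⟩ := mem_zpowers_iff.mp (hlines (x * w) (R.mul_mem hx0 hw) p hp)
    have hxw : Commute x w := hmul x hx0.1 w hw.1
    rw [hxw.mul_zpow, ← conj_mul, ← ha, ← hb] at hc
    have h1 : x ^ (c - a) = w ^ (b - c) := by
      rw [zpow_sub, zpow_sub]
      have h2 : x ^ c = x ^ a * w ^ b * (w ^ c)⁻¹ := eq_mul_inv_of_mul_eq hc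
      rw [h2]
      calc x ^ a * w ^ b * (w ^ c)⁻¹ * (x ^ a)⁻¹
          = x ^ a * (w ^ b * (w ^ c)⁻¹) * (x ^ a)⁻¹ := by group
        _ = w ^ b * (w ^ c)⁻¹ * x ^ a * (x ^ a)⁻¹ := by
            rw [((hxw.zpow_zpow a b).mul_right ((hxw.zpow_zpow a c).inv_right)).eq]
        _ = _ := by group
    have hwo : orderOf w = r := orderOf_eq_prime hw.2 fun h => hwx (h ▸ one_mem _)
    have hxo : orderOf x = r := orderOf_eq_prime hx0.2 hx1
    have h3 : w ^ (b - c) = 1 := by
      by_contra hne
      apply hwx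
      have h4 : zpowers (w ^ (b - c)) = zpowers w :=
        eq_of_le_of_card_ge (zpowers_le.mpr (zpow_mem_zpowers w _)) (by
          rw [Nat.card_zpowers, Nat.card_zpowers, hwo,
            orderOf_eq_prime (R.zpow_mem hw _).2 hne])
      have h5 : w ∈ zpowers (x ^ (c - a)) := by rw [h1, h4]; exact mem_zpowers w
      exact zpowers_le.mpr (zpow_mem_zpowers x _) h5
    rw [h3, ← orderOf_dvd_iff_zpow_eq_one, hxo] at h1
    rw [← orderOf_dvd_iff_zpow_eq_one, hwo] at h3
    rw [← hb, zpow_eq_zpow_iff_modEq, hwo, Int.modEq_iff_dvd]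
    have : (r : ℤ) ∣ -((b - c) + (c - a)) := (dvd_add h3 h1).neg_right
    convert this using 1; ring
  -- the action is trivial
  let φ : G →* MulAut R := MulAut.conjNormal
  have hφcomm : ∀ p ∈ P, ∀ g : G, Commute (φ g) (φ p) := by
    intro p hp g
    obtain ⟨a, ha⟩ := hscal p hp
    ext w : 2
    show g * (p * (w : G) * p⁻¹) * g⁻¹ = p * (g * (w : G) * g⁻¹) * p⁻¹
    rw [ha _ w.2, ha _ (hRn.conj_mem _ w.2 g), conj_zpow]
  have hu1 : φ u = 1 := order_four_map_eq_one hB φ (hφcomm u huP) hu hv huv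
  have h4 : ∀ w : G, orderOf w = 4 → φ w = 1 := by
    intro w hw
    obtain ⟨g, hg⟩ := hB (zpowers u) (zpowers w) inferInstance inferInstance
      (by rw [Nat.card_zpowers, Nat.card_zpowers, hu, hw])
    have hmem : w ∈ (zpowers u).map (MulAut.conj g).toMonoidHom := hg ▸ mem_zpowers w
    rw [MonoidHom.map_zpowers] at hmem
    obtain ⟨i, rfl⟩ := mem_zpowers_iff.mp hmem
    show φ ((g * u * g⁻¹) ^ i) = 1
    rw [map_zpow, map_mul, map_mul, hu1, mul_one, map_inv, mul_inv_cancel, one_zpow]
  intro p hp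
  have h5 : φ p = 1 := ((closure_le φ.ker).mpr h4) (hgen hp)
  have h6 := congrArg (fun σ : MulAut R => ((σ ⟨x, (mem_inf.mp hxDr).2⟩ : R) : G)) h5
  exact mul_inv_eq_iff_eq_mul.mp (h6 : p * x * p⁻¹ = x)

/-- Conjugacy inside `normalizer D` of subgroups of order four. -/
lemma exists_normalizer_conj (hB : HasConj G) {F D : Subgroup G} (hF : Full F) (hDF : D ≤ F)
    (hF2 : ¬ 2 ∣ Nat.card F) (h2 : OneSub G 2) {P : Subgroup G} (hP2 : IsPGroup 2 P)
    (hW : (F ⊔ P).Normal) (hPD : P ≤ normalizer (D : Set G))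
    (hP8 : Nat.card P = 8) (hPnc : ¬ IsCyclic P)
    {U U' : Subgroup G} (hU : U ≤ P) (hU' : U' ≤ P) (hc : Nat.card U = Nat.card U') :
    ∃ g ∈ normalizer (D : Set G), U' = U.map (MulAut.conj g).toMonoidHom := by
  classical
  haveI : Fact (Nat.Prime 2) := ⟨Nat.prime_two⟩
  haveI := hF.normal
  obtain ⟨j, hj⟩ := IsPGroup.iff_card.mp (hP2.to_le hU)
  have hj3 : j ≤ 3 := by
    have h1 := card_dvd_of_le hU
    rw [hj, hP8, show (8 : ℕ) = 2 ^ 3 from rfl] at h1
    exact (Nat.pow_dvd_pow_iff_le_right one_lt_two).mp h1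
  have hone : U = U' → ∃ g ∈ normalizer (D : Set G), U' = U.map (MulAut.conj g).toMonoidHom :=
    fun h => ⟨1, Subgroup.one_mem _, by rw [map_conj_eq_self (Subgroup.one_mem _), h]⟩
  have hu_uniq := h2.unique hP2
  by_cases hj2 : j = 2
  swap
  · refine hone ?_
    interval_cases j
    · rw [pow_zero] at hj
      rw [hj] at hc
      exact (card_eq_one.mp hj).trans (card_eq_one.mp hc.symm).symm
    · rw [pow_one] at hj
      refine eq_of_le_of_card_ge (fun x hx => ?_) (by rw [← hc])
      by_cases hx1 : x = 1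
      · rw [hx1]; exact U'.one_mem
      obtain ⟨⟨w, hw⟩, hwo⟩ := exists_prime_orderOf_dvd_card' (G := U') 2 (hj ▸ dvd_of_eq hc)
      rw [Subgroup.orderOf_mk] at hwo
      have hxo : orderOf x = 2 := by
        have h1 := orderOf_dvd_natCard (⟨x, hx⟩ : U)
        rw [Subgroup.orderOf_mk, hj] at h1
        exact ((Nat.dvd_prime Nat.prime_two).mp h1).resolve_left
          fun h => hx1 (orderOf_eq_one_iff.mp h)
      obtain ⟨i, hi⟩ := mem_zpowers_iff.mp (hu_uniq ⟨x, hU hx⟩ ⟨w, hU' hw⟩
        (by rw [Subgroup.orderOf_mk, hxo]) (by rw [Subgroup.orderOf_mk, hwo]))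
      have h2 : w ^ i = x := congrArg Subtype.val hi
      exact h2 ▸ U'.zpow_mem hw i
    · omega
    · have h1 : U = P := eq_of_le_of_card_ge hU (by rw [hj, hP8]; norm_num)
      have h2 : U' = P := eq_of_le_of_card_ge hU' (by rw [← hc, hj, hP8]; norm_num)
      exact h1.trans h2.symm
  subst hj2
  have h8 : ∀ x : P, orderOf x ≠ 8 := fun x hx => hPnc (by
    have : zpowers x = ⊤ := eq_top_of_card_eq _ (by rw [Nat.card_zpowers, hx, hP8])
    exact ⟨⟨x, fun y => mem_zpowers_iff.mp (this ▸ mem_top y)⟩⟩)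
  obtain ⟨-, hgen, a, b, ha, hb, hab⟩ := quat_facts hP2 hPnc hu_uniq h8
  have hgen' : P ≤ closure {y : G | orderOf y = 4} := by
    intro p hp
    have h1 : (⟨p, hp⟩ : P) ∈ closure {y : P | orderOf y = 4} := hgen ▸ mem_top _
    have h3 := mem_map_of_mem P.subtype h1
    rw [MonoidHom.map_closure] at h3
    refine closure_mono ?_ h3
    rintro _ ⟨y, hy, rfl⟩
    exact (Subgroup.orderOf_coe y).trans hy
  set D₀ := D ⊓ centralizer (P : Set G) with hD₀
  have hD₀F : D₀ ≤ F := inf_le_left.trans hDF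
  have hmul : ∀ a ∈ F, ∀ b ∈ F, a * b = b * a := fun a ha b hb =>
    congrArg Subtype.val (hF.comm.is_comm.comm ⟨a, ha⟩ ⟨b, hb⟩)
  have hodd : ∀ w ∈ F, w ^ 4 = 1 → w = 1 := fun w hw h4 => by
    rw [← orderOf_eq_one_iff]
    refine Nat.eq_one_of_dvd_coprimes (a := 2 ^ 2) (b := Nat.card F) ?_
      (orderOf_dvd_of_pow_eq_one h4) ?_
    · exact Nat.Coprime.pow_left _ ((Nat.prime_two.coprime_iff_not_dvd).mpr hF2)
    · have := orderOf_dvd_natCard (⟨w, hw⟩ : F)
      rwa [Subgroup.orderOf_mk] at this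
  have hcm : ∀ V : Subgroup G, V ≤ P → ∀ d ∈ D₀, ∀ v ∈ V, d * v = v * d := fun V hV d hd v hv =>
    (mem_centralizer_iff.mp hd.2 v (hV hv)).symm
  have habel : ∀ V : Subgroup G, V ≤ P → Nat.card V = 2 ^ 2 →
      IsMulCommutative (D₀ ⊔ V : Subgroup G) ∧ (∀ w ∈ D₀ ⊔ V, ∃ d ∈ D₀, ∃ v ∈ V, w = d * v) ∧
      Nat.card (D₀ ⊔ V : Subgroup G) = Nat.card D₀ * 2 ^ 2 := by
    intro V hV hVc
    have hVcomm : IsMulCommutative V := IsPGroup.isMulCommutative_of_card_eq_prime_sq hVc
    have hn : V ≤ normalizer (D₀ : Set G) := fun v hv => mem_normalizer_iff.mpr fun d => by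
      constructor
      · intro hd
        rwa [← hcm V hV d hd v hv, mul_inv_cancel_right]
      · intro hd
        have h1 := hcm V hV _ hd v hv
        have h2 : v * d * v⁻¹ = d := by
          have h3 : v⁻¹ * (v * d * v⁻¹) * v = v * d * v⁻¹ := by
            rw [mul_assoc v⁻¹, h1, inv_mul_cancel_left]
          calc v * d * v⁻¹ = v⁻¹ * (v * d * v⁻¹) * v := h3.symm
            _ = d := by group
        rwa [h2] at hd
    have hform : ∀ w ∈ D₀ ⊔ V, ∃ d ∈ D₀, ∃ v ∈ V, w = d * v := by
      intro w hw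
      rw [← SetLike.mem_coe, Subgroup.coe_mul_of_right_le_normalizer_left _ _ hn] at hw
      obtain ⟨d, hd, v, hv, rfl⟩ := hw
      exact ⟨d, hd, v, hv, rfl⟩
    refine ⟨⟨⟨fun s t => Subtype.ext ?_⟩⟩, hform, ?_⟩
    · obtain ⟨d, hd, v, hv, hs⟩ := hform s s.2
      obtain ⟨e, he, w, hw, ht⟩ := hform t t.2
      show (s : G) * t = t * s
      rw [hs, ht]
      have h1 : Commute (d * v) (e * w) :=
        Commute.mul_left (Commute.mul_right (hmul d (hD₀F hd) e (hD₀F he)) (hcm V hV d hd w hw))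
          (Commute.mul_right (hcm V hV e he v hv).symm
            (congrArg Subtype.val (hVcomm.is_comm.comm ⟨v, hv⟩ ⟨w, hw⟩)))
      exact h1.eq
    · have h1 := Coprime.card_sup_mul_card_inf (N := D₀) (H := V) hn
      have hinf : D₀ ⊓ V = ⊥ := by
        rw [eq_bot_iff]
        intro w hw
        refine mem_bot.mpr (hodd w (hD₀F hw.1) ?_)
        rw [show (4 : ℕ) = 2 ^ 2 from rfl, ← hVc]
        exact congrArg Subtype.val (pow_card_eq_one' (x := (⟨w, hw.2⟩ : V)))
      rw [hinf, Subgroup.card_bot, mul_one, hVc] at h1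
      exact h1
  obtain ⟨hUc, hUf, hUn⟩ := habel U hU hj
  have hj' : Nat.card U' = 2 ^ 2 := hc ▸ hj
  obtain ⟨hU'c, hU'f, hU'n⟩ := habel U' hU' hj'
  obtain ⟨g, hg⟩ := hB _ _ hUc hU'c (hUn.trans hU'n.symm)
  have hD₀g : D₀.map (MulAut.conj g).toMonoidHom = D₀ := by
    refine eq_of_le_of_card_ge ?_ (card_map_conj _ g).ge
    rintro _ ⟨d, hd, rfl⟩
    have h1 : MulAut.conj g d ∈ D₀ ⊔ U' := hg ▸ mem_map_of_mem _ (mem_sup_left hd)
    obtain ⟨e, he, v, hv, hev⟩ := hU'f _ h1
    have hgF : MulAut.conj g d ∈ F := hF.normal.conj_mem d (hD₀F hd) g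
    have hvF : v ∈ F := by
      have := F.mul_mem (F.inv_mem (hD₀F he)) hgF
      rwa [hev, inv_mul_cancel_left] at this
    have hv1 : v = 1 := hodd v hvF (by
      rw [show (4 : ℕ) = 2 ^ 2 from rfl, ← hj']
      exact congrArg Subtype.val (pow_card_eq_one' (x := (⟨v, hv⟩ : U'))))
    show MulAut.conj g d ∈ D₀
    rw [hev, hv1, mul_one]; exact he
  refine ⟨g, ?_, ?_⟩
  · -- `g` normalises `D`
    refine mem_normalizer_of_map_conj (eq_of_le_of_card_ge ?_ (card_map_conj _ g).ge)
    rw [map_le_iff_le_comap]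
    refine le_of_primePow_mem fun r hr x hx hxr => ?_
    show MulAut.conj g x ∈ D
    by_cases hall : ∀ y : G, (∃ k, orderOf y = r ^ k) → y ∈ D
    · obtain ⟨k, hk⟩ := hxr
      exact hall _ ⟨k, by rw [MulEquiv.orderOf_eq, hk]⟩
    push Not at hall
    obtain ⟨y, hyr, hyD⟩ := hall
    have hx0 : x ∈ D₀ := mem_inf.mpr ⟨hx, mem_centralizer_iff.mpr fun p hp =>
      commute_partial hB hF hDF hW hPD a.2 (by rw [Subgroup.orderOf_coe, ha])
        (by rw [Subgroup.orderOf_coe, hb]) (by rw [← Subgroup.coe_mul, Subgroup.orderOf_coe, hab])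
        hgen' hr hx hxr hyr hyD p hp⟩
    have h1 : MulAut.conj g x ∈ D₀.map (MulAut.conj g).toMonoidHom := mem_map_of_mem _ hx0
    rw [hD₀g] at h1
    exact h1.1
  · refine (eq_of_le_of_card_ge ?_ (by rw [card_map_conj, hc])).symm
    rintro _ ⟨x, hx, rfl⟩
    have h1 : MulAut.conj g x ∈ D₀ ⊔ U' := hg ▸ mem_map_of_mem _ (mem_sup_right hx)
    obtain ⟨e, he, v, hv, hev⟩ := hU'f _ h1
    have h4 : (MulAut.conj g x) ^ 4 = 1 := by
      rw [← map_pow, show (4 : ℕ) = 2 ^ 2 from rfl, ← hj,
        show x ^ Nat.card U = 1 from congrArg Subtype.val (pow_card_eq_one' (x := (⟨x, hx⟩ : U))),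
        map_one]
    have hv4 : v ^ 4 = 1 := by
      rw [show (4 : ℕ) = 2 ^ 2 from rfl, ← hj']
      exact congrArg Subtype.val (pow_card_eq_one' (x := (⟨v, hv⟩ : U')))
    rw [hev, (show Commute e v from hcm U' hU' e he v hv).mul_pow, hv4, mul_one] at h4
    show MulAut.conj g x ∈ U'
    rw [hev, hodd e (hD₀F he) h4, one_mul]; exact hv

/-- In a solvable group with conjugate abelian subgroups of equal order all subgroups of equal
order are conjugate. -/
theorem sameConj_of_hasConj (hsol : Group.IsSolvable G) (hB : HasConj G) : SameConj G := by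
  classical
  haveI : Fact (Nat.Prime 2) := ⟨Nat.prime_two⟩
  obtain ⟨F, hF, hone⟩ := exists_full hsol hB
  haveI := hF.normal
  intro A B hcard
  have hmulF : ∀ a ∈ F, ∀ b ∈ F, a * b = b * a := fun a ha b hb =>
    congrArg Subtype.val (hF.comm.is_comm.comm ⟨a, ha⟩ ⟨b, hb⟩)
  have hcomm : ∀ X : Subgroup G, IsMulCommutative (X ⊓ F : Subgroup G) := fun X =>
    ⟨⟨fun a b => Subtype.ext (hmulF _ a.2.2 _ b.2.2)⟩⟩
  obtain ⟨g₁, hg₁⟩ := hB (A ⊓ F) (B ⊓ F) (hcomm A) (hcomm B) (hF.card_inf hcard)
  set A' := A.map (MulAut.conj g₁).toMonoidHom with hA'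
  suffices ∃ g : G, B = A'.map (MulAut.conj g).toMonoidHom by
    obtain ⟨g, hg⟩ := this
    exact ⟨g * g₁, by rw [hg, hA', map_conj_map]⟩
  have hA'c : Nat.card A' = Nat.card B := (card_map_conj A g₁).trans hcard
  set D := B ⊓ F with hD
  have hA'D : A' ⊓ F = D := by
    rw [hA', hg₁, Subgroup.map_inf _ _ _ (MulEquiv.injective _),
      map_conj_eq_self (A := F) (g := g₁) (le_normalizer_of_normal (mem_top g₁))]
  set H := normalizer (D : Set G) with hH
  have hnorm : ∀ X : Subgroup G, X ⊓ F = D → X ≤ H := by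
    intro X hX x hx
    refine mem_normalizer_of_map_conj ?_
    rw [← hX, Subgroup.map_inf _ _ _ (MulEquiv.injective _),
      map_conj_eq_self (A := F) (g := x) (le_normalizer_of_normal (mem_top x)),
      map_conj_eq_self (le_normalizer hx)]
  have hAH : A' ≤ H := hnorm A' hA'D
  have hBH : B ≤ H := hnorm B rfl
  have hFD : F ≤ normalizer (D : Set G) := fun f hf => by
    refine mem_normalizer_of_map_conj (eq_of_le_of_card_ge ?_ (card_map_conj _ f).ge)
    rintro _ ⟨d, hd, rfl⟩
    show f * d * f⁻¹ ∈ D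
    rwa [hmulF f hf d hd.2, mul_inv_cancel_right]
  set FH := F.subgroupOf H with hFH
  have hFHc : Nat.card FH = Nat.card F := Nat.card_congr (subgroupOfEquivOfLe hFD).toEquiv
  set π := QuotientGroup.mk' FH with hπ
  -- the quotient
  have hX : SameConj (↥H ⧸ FH) := by
    have hnd : ∀ r : ℕ, r.Prime → r ∣ Nat.card F → ¬ r ∣ Nat.card (↥H ⧸ FH) := by
      intro r hr hrF hd
      haveI := Fact.mk hr
      obtain ⟨S⟩ : Nonempty (Sylow r H) := inferInstance
      refine S.not_dvd_index (dvd_trans (show r ∣ FH.index from hd) (index_dvd_of_le fun x hx => ?_))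
      obtain ⟨i, hi⟩ := IsPGroup.iff_orderOf.mp S.isPGroup' ⟨x, hx⟩
      rw [Subgroup.orderOf_mk, ← Subgroup.orderOf_coe] at hi
      exact (hF.mem r hr hrF _ ⟨i, hi⟩).1
    have htriv : ∀ r : ℕ, r.Prime → r ∣ Nat.card F → Cyc (↥H ⧸ FH) r := by
      intro r hr hrF S hS
      haveI := Fact.mk hr
      obtain ⟨k, hk⟩ := IsPGroup.iff_card.mp hS
      have hk0 : k = 0 := by
        by_contra h
        exact hnd r hr hrF ((dvd_pow_self r h).trans (hk ▸ S.card_subgroup_dvd_card))
      have := card_eq_one.mp (by rw [hk, hk0, pow_zero])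
      rw [this]; infer_instance
    have hodd : ∀ r : ℕ, r.Prime → r ≠ 2 → Cyc (↥H ⧸ FH) r := by
      intro r hr hr2
      haveI := Fact.mk hr
      by_cases hrF : r ∣ Nat.card F
      · exact htriv r hr hrF
      · exact ((Cyc.of_oneSub hr2 (hone r hr hrF)).subgroup H).quotient FH
    by_cases hc2 : Cyc (↥H ⧸ FH) 2
    · exact sameConj_of_cyc inferInstance fun r hr => by
        by_cases hr2 : r = 2
        · exact hr2 ▸ hc2
        · exact hodd r hr hr2
    have hF2 : ¬ 2 ∣ Nat.card F := fun h => hc2 (htriv 2 Nat.prime_two h)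
    have h2G := hone 2 Nat.prime_two hF2
    obtain ⟨S⟩ : Nonempty (Sylow 2 H) := inferInstance
    have hSc : ¬ IsCyclic (S : Subgroup H) := by
      intro h
      refine hc2 (Cyc.quotient (fun T hT => ?_) FH)
      obtain ⟨T', hT'⟩ := hT.exists_le_sylow
      obtain ⟨c, hc⟩ := MulAction.exists_smul_eq H S T'
      refine isCyclic_of_le hT' ?_
      rw [← hc]
      haveI := h
      exact isCyclic_of_surjective
        (equivMapOfInjective (S : Subgroup H) (MulAut.conj c).toMonoidHom (MulEquiv.injective _)).toMonoidHom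
        (MulEquiv.surjective _)
    obtain ⟨P, hSP⟩ := (S.isPGroup'.map H.subtype).exists_le_sylow
    have hPu := h2G.unique P.isPGroup'
    have hPc : ¬ IsCyclic (P : Subgroup G) := fun h => hSc (by
      haveI := isCyclic_of_le hSP h
      exact isCyclic_of_surjective
        (equivMapOfInjective (S : Subgroup H) H.subtype H.subtype_injective).symm.toMonoidHom
        (MulEquiv.surjective _))
    set π₀ := QuotientGroup.mk' F with hπ₀
    have hinj : Function.Injective (π₀.subgroupMap (P : Subgroup G)) := by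
      rw [injective_iff_map_eq_one]
      intro x hx
      have h1 : (x : G) ∈ F := (QuotientGroup.eq_one_iff _).mp (congrArg Subtype.val hx)
      obtain ⟨k, hk⟩ := IsPGroup.iff_orderOf.mp P.isPGroup' x
      rw [← orderOf_eq_one_iff]
      refine Nat.eq_one_of_dvd_coprimes (a := 2 ^ k) (b := Nat.card F) ?_ (dvd_of_eq hk) ?_
      · exact Nat.Coprime.pow_left _ ((Nat.prime_two.coprime_iff_not_dvd).mpr hF2)
      · have := orderOf_dvd_natCard (⟨(x : G), h1⟩ : F)
        rwa [Subgroup.orderOf_mk, Subgroup.orderOf_coe] at this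
    have hbij : Function.Bijective (π₀.subgroupMap (P : Subgroup G)) :=
      ⟨hinj, π₀.subgroupMap_surjective _⟩
    let P₀ := P.mapSurjective (QuotientGroup.mk'_surjective F)
    obtain ⟨hP₀n, hP₀8, -⟩ := normal_sylow_two (G := G ⧸ F) inferInstance
      (hasConj_quotient _ G rfl hsol hB F) (h2G.quotient F hF2)
      (fun r hr hr2 => by
        haveI := Fact.mk hr
        by_cases hrF : r ∣ Nat.card F
        · intro T hT
          obtain ⟨k, hk⟩ := IsPGroup.iff_card.mp hT
          have hk0 : k = 0 := by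
            by_contra h
            obtain ⟨Q⟩ : Nonempty (Sylow r G) := inferInstance
            refine Q.not_dvd_index (dvd_trans ((dvd_pow_self r h).trans
              (hk ▸ T.card_subgroup_dvd_card) : r ∣ F.index) (index_dvd_of_le fun x hx => ?_))
            obtain ⟨i, hi⟩ := IsPGroup.iff_orderOf.mp Q.isPGroup' ⟨x, hx⟩
            rw [Subgroup.orderOf_mk] at hi
            exact (hF.mem r hr hrF _ ⟨i, hi⟩).1
          have := card_eq_one.mp (by rw [hk, hk0, pow_zero])
          rw [this]; infer_instance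
        · exact (Cyc.of_oneSub hr2 (hone r hr hrF)).quotient F)
      P₀ (fun h => hPc (by
        haveI : IsCyclic ((P : Subgroup G).map π₀) := h
        exact isCyclic_of_surjective (MulEquiv.ofBijective _ hbij).symm.toMonoidHom
          (MulEquiv.surjective _)))
    have hP8 : Nat.card (P : Subgroup G) = 8 := by
      rw [← hP₀8]; exact Nat.card_congr (Equiv.ofBijective _ hbij)
    have hSeq : (S : Subgroup H).map H.subtype = (P : Subgroup G) := by
      refine eq_of_le_of_card_ge hSP ?_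
      obtain ⟨j, hj⟩ := IsPGroup.iff_card.mp (S.isPGroup'.map H.subtype)
      rw [hP8, hj]
      by_contra hlt
      have hj2 : j ≤ 2 := by
        by_contra h
        have := Nat.pow_le_pow_right two_pos (show 3 ≤ j by omega)
        omega
      have hnc : ¬ IsCyclic ((S : Subgroup H).map H.subtype) := fun h => hSc (by
        haveI := h
        exact isCyclic_of_surjective
          (equivMapOfInjective (S : Subgroup H) H.subtype H.subtype_injective).symm.toMonoidHom
          (MulEquiv.surjective _))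
      obtain ⟨-, m, ⟨e⟩⟩ := (Cfsg.Agent.Lib.Frobenius.isCyclic_or_quaternion_of_unique
        (S.isPGroup'.map H.subtype) (h2G.unique (S.isPGroup'.map H.subtype))).resolve_left hnc
      haveI : NeZero (2 ^ (m + 1)) := ⟨pow_ne_zero _ two_ne_zero⟩
      have h5 := Nat.card_congr e.toEquiv
      rw [hj, Nat.card_eq_fintype_card (α := QuaternionGroup _), QuaternionGroup.card] at h5
      have := Nat.one_lt_two_pow (n := m + 1) (by omega)
      have := Nat.pow_le_pow_right two_pos hj2
      omega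
    have hPH : (P : Subgroup G) ≤ H := hSeq ▸ map_subtype_le _
    have hW : (F ⊔ (P : Subgroup G)).Normal := by
      have h1 : ((P : Subgroup G).map π₀).comap π₀ = F ⊔ (P : Subgroup G) := by
        rw [comap_map_eq, hπ₀, QuotientGroup.ker_mk', sup_comm]
      exact h1 ▸ hP₀n.comap π₀
    let S' := S.mapSurjective (QuotientGroup.mk'_surjective FH)
    have hFH2 : ¬ 2 ∣ Nat.card FH := hFHc ▸ hF2
    have hSinj : Function.Injective (π.subgroupMap (S : Subgroup H)) := by
      rw [injective_iff_map_eq_one]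
      intro x hx
      have h1 : (x : H) ∈ FH := (QuotientGroup.eq_one_iff _).mp (congrArg Subtype.val hx)
      obtain ⟨k, hk⟩ := IsPGroup.iff_orderOf.mp S.isPGroup' x
      rw [← orderOf_eq_one_iff]
      refine Nat.eq_one_of_dvd_coprimes (a := 2 ^ k) (b := Nat.card FH) ?_ (dvd_of_eq hk) ?_
      · exact Nat.Coprime.pow_left _ ((Nat.prime_two.coprime_iff_not_dvd).mpr hFH2)
      · have := orderOf_dvd_natCard (⟨(x : H), h1⟩ : FH)
        rwa [Subgroup.orderOf_mk, Subgroup.orderOf_coe] at this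
    have hSbij : Function.Bijective (π.subgroupMap (S : Subgroup H)) :=
      ⟨hSinj, π.subgroupMap_surjective _⟩
    have hS'n : (S' : Subgroup (↥H ⧸ FH)).Normal := by
      refine ⟨fun q hq c => ?_⟩
      obtain ⟨s, hs, rfl⟩ := hq
      obtain ⟨h, rfl⟩ := QuotientGroup.mk'_surjective FH c
      have hsP : (s : G) ∈ (P : Subgroup G) := hSeq ▸ mem_map_of_mem H.subtype hs
      have h1 : (h : G) * s * (h : G)⁻¹ ∈ F ⊔ (P : Subgroup G) := hW.conj_mem _ (mem_sup_right hsP) h
      rw [← SetLike.mem_coe, Subgroup.normal_mul] at h1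
      obtain ⟨f, hf, y, hy, hfy⟩ := h1
      rw [← hSeq] at hy
      obtain ⟨s', hs', rfl⟩ := hy
      refine ⟨s', hs', ?_⟩
      rw [← map_inv, ← map_mul, ← map_mul, QuotientGroup.mk'_apply, QuotientGroup.mk'_apply,
        QuotientGroup.eq, hFH, mem_subgroupOf]
      push_cast
      rw [show (h : G) * s * (h : G)⁻¹ = f * (s' : G) from hfy.symm, ← mul_assoc]
      simpa using hF.normal.conj_mem f hf ((s' : G))⁻¹
    have hS8 : Nat.card (S : Subgroup H) = 8 := by
      rw [← hP8, ← hSeq]
      exact Nat.card_congr (equivMapOfInjective (S : Subgroup H) H.subtype H.subtype_injective).toEquiv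
    refine sameConj_of_quat inferInstance hodd ((h2G.subgroup H).quotient FH hFH2) S' hS'n ?_ ?_ ?_
    · rw [← hS8]; exact (Nat.card_congr (Equiv.ofBijective _ hSbij)).symm
    · intro h
      refine hSc ?_
      haveI : IsCyclic ((S : Subgroup H).map π) := h
      exact isCyclic_of_surjective (MulEquiv.ofBijective _ hSbij).symm.toMonoidHom
        (MulEquiv.surjective _)
    · intro U U' hU hU' hc
      have key : ∀ V : Subgroup (↥H ⧸ FH), IsPGroup 2 V → V ≤ (S : Subgroup H).map π := by
        intro V hV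
        obtain ⟨Q, hQ⟩ := hV.exists_le_sylow
        haveI := _root_.Sylow.unique_of_normal S' hS'n
        rw [Subsingleton.elim Q S'] at hQ
        exact hQ
      have lift : ∀ V : Subgroup (↥H ⧸ FH), IsPGroup 2 V → ∃ V₀ : Subgroup H,
          V₀ ≤ S ∧ V₀.map π = V ∧ Nat.card V₀ = Nat.card V := by
        intro V hV
        have hV' : (V.comap π ⊓ (S : Subgroup H)).map π = V := by
          refine le_antisymm (fun y hy => ?_) fun y hy => ?_
          · obtain ⟨x, hx, rfl⟩ := hy
            exact hx.1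
          · obtain ⟨x, hx, rfl⟩ := key V hV hy
            exact ⟨x, ⟨hy, hx⟩, rfl⟩
        refine ⟨V.comap π ⊓ (S : Subgroup H), inf_le_right, hV', ?_⟩
        conv_rhs => rw [← hV']
        exact Nat.card_congr (Equiv.ofBijective (π.subgroupMap _)
          ⟨fun a b h => Subtype.ext (congrArg (fun t : (S : Subgroup H) => (t : H))
            (hSinj (a₁ := ⟨a, a.2.2⟩) (a₂ := ⟨b, b.2.2⟩) (Subtype.ext (congrArg Subtype.val h :)))),
            π.subgroupMap_surjective _⟩)
      obtain ⟨V, hVS, hVm, hVc⟩ := lift U hU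
      obtain ⟨V', hV'S, hV'm, hV'c⟩ := lift U' hU'
      have hVG : ∀ T : Subgroup H, T ≤ S → T.map H.subtype ≤ (P : Subgroup G) := fun T hT =>
        hSeq ▸ Subgroup.map_mono hT
      have hcardm : ∀ T : Subgroup H, Nat.card (T.map H.subtype) = Nat.card T := fun T =>
        (Nat.card_congr (equivMapOfInjective T H.subtype H.subtype_injective).toEquiv).symm
      obtain ⟨g, hgD, hg⟩ := exists_normalizer_conj hB hF inf_le_right hF2 h2G P.isPGroup' hW
        (hPH) hP8 hPc (hVG V hVS) (hVG V' hV'S) (by rw [hcardm, hcardm, hVc, hV'c, hc])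
      refine ⟨π ⟨g, hgD⟩, ?_⟩
      have hg' : V' = V.map (MulAut.conj (⟨g, hgD⟩ : H)).toMonoidHom := by
        apply Subgroup.map_injective H.subtype_injective
        rw [hg, Subgroup.map_map, Subgroup.map_map]
        congr 1
      rw [← hV'm, ← hVm, hg', Subgroup.map_map, Subgroup.map_map]
      congr 1
  -- images
  have himg : ∀ X : Subgroup G, X ≤ H → X ⊓ F = D →
      Nat.card ((X.subgroupOf H).map π) * Nat.card D = Nat.card X := by
    intro X hXH hXF
    have h1 := relIndex_comap (H := (⊥ : Subgroup (↥H ⧸ FH))) π (X.subgroupOf H)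
    rw [MonoidHom.comap_bot, hπ, QuotientGroup.ker_mk', relIndex_bot_left] at h1
    rw [hπ, ← h1, ← inf_relIndex_left, mul_comm,
      ← Nat.card_congr (subgroupOfEquivOfLe hXH).toEquiv, ← hXF,
      ← Nat.card_congr (subgroupOfEquivOfLe ((inf_le_left : X ⊓ F ≤ X).trans hXH)).toEquiv,
      show (X ⊓ F).subgroupOf H = X.subgroupOf H ⊓ FH from rfl,
      ← Nat.card_congr (subgroupOfEquivOfLe (inf_le_left : X.subgroupOf H ⊓ FH ≤ X.subgroupOf H)).toEquiv]
    exact card_mul_index _
  obtain ⟨c, hc⟩ := hX ((A'.subgroupOf H).map π) ((B.subgroupOf H).map π) (by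
    have h1 := himg A' hAH hA'D
    rw [hA'c, ← himg B hBH rfl] at h1
    exact Nat.eq_of_mul_eq_mul_right Nat.card_pos h1)
  obtain ⟨c, rfl⟩ := QuotientGroup.mk'_surjective FH c
  set A'' := A'.map (MulAut.conj (c : G)).toMonoidHom with hA''
  have hA''D : A'' ⊓ F = D := by
    rw [hA'', ← map_conj_eq_self (A := F) (g := (c : G)) (le_normalizer_of_normal (mem_top _)),
      ← Subgroup.map_inf _ _ _ (MulEquiv.injective _), hA'D, map_conj_eq_self c.2]
  have hsup : A'' ⊔ F = B ⊔ F := by
    have h2 : ((A'.subgroupOf H).map π).map (MulAut.conj (π c)).toMonoidHom =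
        ((A'.subgroupOf H).map (MulAut.conj c).toMonoidHom).map π := by
      rw [Subgroup.map_map, Subgroup.map_map]
      congr 1
    rw [h2] at hc
    have h1 := congrArg (fun X : Subgroup (↥H ⧸ FH) => (X.comap π).map H.subtype) hc
    simp only [comap_map_eq, hπ, QuotientGroup.ker_mk', Subgroup.map_sup] at h1
    rw [show FH.map H.subtype = F from map_subgroupOf_eq_of_le hFD,
      map_subgroupOf_eq_of_le hBH] at h1
    rw [h1, hA'']
    congr 1
    conv_lhs => rw [← map_subgroupOf_eq_of_le hAH]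
    rw [Subgroup.map_map, Subgroup.map_map]
    congr 1
  suffices ∃ g : G, B = A''.map (MulAut.conj g).toMonoidHom by
    obtain ⟨g, hg⟩ := this
    exact ⟨g * c, by rw [hg, hA'', map_conj_map]⟩
  haveI : Group.IsSolvable F := inferInstance
  refine exists_conj_of_inf_eq (N := F) this hA''D ?_ hsup ?_ ((card_map_conj A' _).trans hA'c)
  · rw [hA''D]; exact hFD
  · rw [inf_relIndex_left]
    have hcopF : (Nat.card F).Coprime F.index := by
      refine Nat.coprime_of_dvd fun r hr hrF hri => ?_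
      haveI := Fact.mk hr
      obtain ⟨Q⟩ : Nonempty (Sylow r G) := inferInstance
      refine Q.not_dvd_index (hri.trans (index_dvd_of_le fun x hx => ?_))
      obtain ⟨i, hi⟩ := IsPGroup.iff_orderOf.mp Q.isPGroup' ⟨x, hx⟩
      rw [Subgroup.orderOf_mk] at hi
      exact (hF.mem r hr hrF _ ⟨i, hi⟩).1
    exact hcopF.coprime_dvd_right (relIndex_dvd_index_of_normal _ _)

end Cfsg.Agent.AbelianConj
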