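import Cfsg.Agent.Lib.AbelianConj.Lift

/-!
Groups with cyclic or quaternion Sylow subgroups: conjugacy of subgroups of equal order.
-/

set_option autoImplicit false
set_option linter.unusedSectionVars false

namespace Cfsg.Agent.AbelianConj

open Subgroup
open Cfsg.Agent.Lib

universe u

variable {G : Type u} [Group G] [Finite G]

variable (G) in
/-- All `r`-subgroups are cyclic. -/
def Cyc (r : ℕ) : Prop := ∀ S : Subgroup G, IsPGroup r S → IsCyclic S

lemma isCyclic_of_le {A B : Subgroup G} (h : A ≤ B) (hB : IsCyclic B) : IsCyclic A := by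
  haveI := hB
  exact isCyclic_of_surjective (subgroupOfEquivOfLe h).toMonoidHom (MulEquiv.surjective _)

lemma Cyc.of_oneSub {r : ℕ} [Fact r.Prime] (hr2 : r ≠ 2) (h : OneSub G r) : Cyc G r := fun _S hS =>
  Cfsg.Agent.Lib.Frobenius.isCyclic_of_unique_odd hr2 hS (h.unique hS)

lemma Cyc.subgroup {r : ℕ} (h : Cyc G r) (H : Subgroup G) : Cyc H r := fun S hS => by
  haveI := h _ (hS.map H.subtype)
  exact isCyclic_of_surjective (equivMapOfInjective S H.subtype H.subtype_injective).symm.toMonoidHom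
    (MulEquiv.surjective _)

lemma OneSub.subgroup {r : ℕ} (h : OneSub G r) (H : Subgroup G) : OneSub H r := fun a b ha hb hab => by
  obtain ⟨i, hi⟩ := mem_zpowers_iff.mp (h a b (by rw [Subgroup.orderOf_coe, ha])
    (by rw [Subgroup.orderOf_coe, hb]) (congrArg Subtype.val hab))
  exact mem_zpowers_iff.mpr ⟨i, Subtype.ext (by rw [← hi, SubgroupClass.coe_zpow])⟩

lemma Cyc.quotient {r : ℕ} [Fact r.Prime] (h : Cyc G r) (M : Subgroup G) [M.Normal] :
    Cyc (G ⧸ M) r := by
  intro S hS
  obtain ⟨Q⟩ : Nonempty (Sylow r G) := inferInstance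
  obtain ⟨Q', hQ'⟩ := hS.exists_le_sylow
  obtain ⟨c, hc⟩ := MulAction.exists_smul_eq (G ⧸ M)
    (Q.mapSurjective (QuotientGroup.mk'_surjective M)) Q'
  have hQc : IsCyclic (Q : Subgroup G) := h _ Q.isPGroup'
  refine isCyclic_of_le hQ' ?_
  rw [← hc]
  show IsCyclic ↥(((Q : Subgroup G).map (QuotientGroup.mk' M)).map (MulAut.conj c).toMonoidHom)
  rw [Subgroup.map_map]
  exact isCyclic_of_surjective (((MulAut.conj c).toMonoidHom.comp (QuotientGroup.mk' M)).subgroupMap
    (Q : Subgroup G)) (MonoidHom.subgroupMap_surjective _ _)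

lemma OneSub.quotient {r : ℕ} [hr : Fact r.Prime] (h : OneSub G r) (M : Subgroup G) [M.Normal]
    (hM : ¬ r ∣ Nat.card M) : OneSub (G ⧸ M) r := by
  intro a b ha hb hab
  by_contra hne
  obtain ⟨hVc, hVe, hVcard⟩ := elementary_sq hr.out ha hb hab hne
  obtain ⟨Q⟩ : Nonempty (Sylow r G) := inferInstance
  obtain ⟨Q', hQ'⟩ := (IsPGroup.of_card hVcard).exists_le_sylow
  obtain ⟨c, hc⟩ := MulAction.exists_smul_eq (G ⧸ M)
    (Q.mapSurjective (QuotientGroup.mk'_surjective M)) Q'
  let f : (Q : Subgroup G) →* G ⧸ M :=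
    ((MulAut.conj c).toMonoidHom.comp (QuotientGroup.mk' M)).comp (Q : Subgroup G).subtype
  have hinj : Function.Injective f := by
    rw [injective_iff_map_eq_one]
    intro x hx
    have h1 : MulAut.conj c (QuotientGroup.mk' M (x : G)) = MulAut.conj c 1 := by rw [map_one]; exact hx
    have h2 : (x : G) ∈ M := (QuotientGroup.eq_one_iff _).mp ((MulAut.conj c).injective h1)
    obtain ⟨k, hk⟩ := IsPGroup.iff_orderOf.mp Q.isPGroup' x
    rw [← orderOf_eq_one_iff]
    refine Nat.eq_one_of_dvd_coprimes (a := r ^ k) (b := Nat.card M) ?_ (dvd_of_eq hk) ?_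
    · exact Nat.Coprime.pow_left _ ((hr.out.coprime_iff_not_dvd).mpr hM)
    · have := orderOf_dvd_natCard (⟨(x : G), h2⟩ : M)
      rwa [Subgroup.orderOf_mk, Subgroup.orderOf_coe] at this
  have hpre : ∀ w ∈ zpowers a ⊔ zpowers b, ∃ x, f x = w := fun w hw => by
    have h1 := hQ' hw
    rw [← hc] at h1
    obtain ⟨y, ⟨x, hx, rfl⟩, hy⟩ := h1
    exact ⟨⟨x, hx⟩, hy⟩
  obtain ⟨x, hx⟩ := hpre a (mem_sup_left (mem_zpowers a))
  obtain ⟨y, hy⟩ := hpre b (mem_sup_right (mem_zpowers b))
  obtain ⟨i, hi⟩ := mem_zpowers_iff.mp (h.unique Q.isPGroup' x y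
    (by rw [← orderOf_injective f hinj x, hx, ha]) (by rw [← orderOf_injective f hinj y, hy, hb]))
  exact hne (mem_zpowers_iff.mpr ⟨i, by rw [← hx, ← hy, ← map_zpow, hi]⟩)

/-- Two `r`-subgroups of equal order are conjugate when the Sylow subgroups are cyclic. -/
lemma Cyc.conj {r : ℕ} [Fact r.Prime] (h : Cyc G r) {U U' : Subgroup G} (hU : IsPGroup r U)
    (hU' : IsPGroup r U') (hc : Nat.card U = Nat.card U') :
    ∃ g : G, U' = U.map (MulAut.conj g).toMonoidHom := by
  obtain ⟨P, hP⟩ := hU.exists_le_sylow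
  obtain ⟨P', hP'⟩ := hU'.exists_le_sylow
  obtain ⟨g, hg⟩ := MulAction.exists_smul_eq G P P'
  have h1 : U.map (MulAut.conj g).toMonoidHom ≤ P' := by rw [← hg]; exact Subgroup.map_mono hP
  refine ⟨g, (eq_of_le_of_card_ge (le_of_card_dvd_of_isCyclic (h _ P'.isPGroup') h1 hP' ?_) ?_).symm⟩
  · rw [card_map_conj, hc]
  · rw [card_map_conj, hc]

/-- Facts on a noncyclic 2-group with one involution and exponent dividing four. -/
lemma quat_facts {P : Type u} [Group P] [Finite P] (hP : IsPGroup 2 P) (hnc : ¬ IsCyclic P)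
    (huniq : ∀ a b : P, orderOf a = 2 → orderOf b = 2 → a ∈ zpowers b)
    (h8 : ∀ x : P, orderOf x ≠ 8) :
    Nat.card P = 8 ∧ closure {y : P | orderOf y = 4} = ⊤ ∧
      ∃ u v : P, orderOf u = 4 ∧ orderOf v = 4 ∧ orderOf (u * v) = 4 := by
  classical
  haveI : Fact (Nat.Prime 2) := ⟨Nat.prime_two⟩
  obtain ⟨-, m, ⟨e⟩⟩ :=
    (Cfsg.Agent.Lib.Frobenius.isCyclic_or_quaternion_of_unique hP huniq).resolve_left hnc
  haveI : NeZero (2 ^ (m + 1)) := ⟨pow_ne_zero _ two_ne_zero⟩
  have hm : m = 0 := by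
    by_contra hm
    obtain ⟨l, rfl⟩ := Nat.exists_eq_succ_of_ne_zero hm
    refine h8 (e.symm (QuaternionGroup.a 1 ^ 2 ^ l)) ?_
    rw [MulEquiv.orderOf_eq, orderOf_pow' _ (pow_ne_zero _ two_ne_zero), QuaternionGroup.orderOf_a_one,
      show (2 : ℕ) * 2 ^ (l.succ + 1) = 8 * 2 ^ l by rw [Nat.succ_eq_add_one]; ring,
      Nat.gcd_mul_left_left, Nat.mul_div_cancel _ (pow_pos two_pos l)]
  subst hm
  have hxa : ∀ i, orderOf (e.symm (QuaternionGroup.xa i)) = 4 := fun i => by
    rw [MulEquiv.orderOf_eq, QuaternionGroup.orderOf_xa]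
  refine ⟨?_, ?_, e.symm (QuaternionGroup.xa 0), e.symm (QuaternionGroup.xa 1), hxa 0, hxa 1, ?_⟩
  · rw [Nat.card_congr e.toEquiv, Nat.card_eq_fintype_card, QuaternionGroup.card]
    norm_num
  · refine eq_top_iff.mpr fun y _ => ?_
    obtain ⟨q, rfl⟩ := e.symm.surjective y
    rcases q with i | i
    · have hi : (QuaternionGroup.a i : QuaternionGroup (2 ^ (0 + 1))) =
          QuaternionGroup.xa 0 * QuaternionGroup.xa
            (i - ((2 ^ (0 + 1) : ℕ) : ZMod (2 * 2 ^ (0 + 1)))) := by
        rw [QuaternionGroup.xa_mul_xa]; congr 1; abel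
      rw [hi, map_mul]
      exact mul_mem (subset_closure (hxa _)) (subset_closure (hxa _))
    · exact subset_closure (hxa i)
  · rw [← map_mul, MulEquiv.orderOf_eq, QuaternionGroup.xa_mul_xa, QuaternionGroup.orderOf_a]
    rfl

/-- The values of a homomorphism on conjugate generators of a quaternion group are trivial. -/
lemma map_eq_one_of_conj {X A : Type*} [Group X] [Group A] (φ : X →* A) {u v : X}
    (hu : u ^ 4 = 1) (hv : φ v = φ u ∨ φ v = (φ u)⁻¹)
    (huv : φ (u * v) = φ u ∨ φ (u * v) = (φ u)⁻¹) : φ u = 1 := by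
  have h4 : φ u ^ 4 = 1 := by rw [← map_pow, hu, map_one]
  rw [map_mul] at huv
  rcases huv with h | h
  · rw [mul_eq_left] at h
    rcases hv with h' | h'
    · exact h' ▸ h
    · rw [h'] at h; exact inv_eq_one.mp h
  · rcases hv with h' | h'
    · rw [h', eq_inv_iff_mul_eq_one] at h
      calc φ u = φ u ^ 4 := by
            rw [show (4 : ℕ) = 1 + 3 from rfl, pow_add, pow_one, pow_succ, pow_two, h, mul_one]
        _ = 1 := h4
    · rw [h', mul_inv_cancel, eq_comm, inv_eq_one] at h
      exact h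

/-- Trivial action of elements of order four when every two are conjugate. -/
lemma order_four_map_eq_one {A : Type*} [Group A] (hB : HasConj G) (φ : G →* A)
    {u v : G} (hcomm : ∀ g : G, Commute (φ g) (φ u))
    (hu : orderOf u = 4) (hv : orderOf v = 4) (huv : orderOf (u * v) = 4) : φ u = 1 := by
  classical
  have key : ∀ w : G, orderOf w = 4 → φ w = φ u ∨ φ w = (φ u)⁻¹ := by
    intro w hw
    obtain ⟨g, hg⟩ := hB (zpowers u) (zpowers w) inferInstance inferInstance
      (by rw [Nat.card_zpowers, Nat.card_zpowers, hu, hw])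
    have hmem : w ∈ (zpowers u).map (MulAut.conj g).toMonoidHom := hg ▸ mem_zpowers w
    obtain ⟨x, hx, hxw⟩ := hmem
    obtain ⟨i, hi4, rfl⟩ : ∃ i < 4, u ^ i = x := by
      obtain ⟨i, hi, hi'⟩ := (IsOfFinOrder.mem_zpowers_iff_mem_range_orderOf
        (isOfFinOrder_of_finite u)).mp hx |> Finset.mem_image.mp
      exact ⟨i, hu ▸ Finset.mem_range.mp hi, hi'⟩
    have hw4 : (u ^ i) ^ 2 ≠ 1 := by
      intro h2
      have : w ^ 2 = 1 := by rw [← hxw, ← map_pow, h2, map_one]
      have := orderOf_dvd_of_pow_eq_one this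
      rw [hw] at this
      norm_num at this
    have hφ : φ w = φ u ^ i := by
      have hxw' : g * u ^ i * g⁻¹ = w := hxw
      rw [← hxw', map_mul, map_mul, map_inv, map_pow, ((hcomm g).pow_right i).eq,
        mul_inv_cancel_right]
    have h4 : u ^ 4 = 1 := by rw [← hu]; exact pow_orderOf_eq_one u
    interval_cases i
    · simp at hw4
    · exact Or.inl (by rw [hφ, pow_one])
    · rw [← pow_mul] at hw4; exact absurd h4 hw4
    · refine Or.inr ?_
      rw [hφ, eq_inv_iff_mul_eq_one, ← pow_succ, ← map_pow, h4, map_one]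
  refine map_eq_one_of_conj φ ?_ (key v hv) (key _ huv)
  rw [← hu]; exact pow_orderOf_eq_one u

/-- A noncyclic Sylow 2-subgroup with one involution is normal of order eight. -/
theorem normal_sylow_two (hsol : Group.IsSolvable G) (hB : HasConj G) (h2 : OneSub G 2)
    (hodd : ∀ s : ℕ, s.Prime → s ≠ 2 → Cyc G s) (P : Sylow 2 G)
    (hP : ¬ IsCyclic (P : Subgroup G)) :
    (P : Subgroup G).Normal ∧ Nat.card (P : Subgroup G) = 8 ∧ ∀ x : G, orderOf x ≠ 8 := by
  obtain ⟨n, hn⟩ : ∃ n, Nat.card G = n := ⟨_, rfl⟩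
  induction n using Nat.strong_induction_on generalizing G with
  | _ n ih =>
  classical
  haveI : Fact (Nat.Prime 2) := ⟨Nat.prime_two⟩
  have hPu := h2.unique P.isPGroup'
  have h8of : Nat.card (P : Subgroup G) = 8 → ∀ x : G, orderOf x ≠ 8 := by
    intro hc x hx
    have hx2 : IsPGroup 2 (zpowers x) := IsPGroup.of_card (n := 3)
      (by rw [Nat.card_zpowers, hx]; norm_num)
    obtain ⟨Q, hQ⟩ := hx2.exists_le_sylow
    obtain ⟨c, hc'⟩ := MulAction.exists_smul_eq G Q P
    refine hP ?_
    have h1 : (zpowers x).map (MulAut.conj c).toMonoidHom = (P : Subgroup G) := by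
      refine eq_of_le_of_card_ge (hc' ▸ Subgroup.map_mono hQ) ?_
      rw [card_map_conj, Nat.card_zpowers, hx, hc]
    rw [← h1, MonoidHom.map_zpowers]
    infer_instance
  by_cases hodd' : ∃ N : Subgroup G, N.Normal ∧ N ≠ ⊥ ∧ ¬ 2 ∣ Nat.card N
  · obtain ⟨N, hNn, hN0, hN2⟩ := hodd'
    haveI := hNn
    obtain ⟨s, M, hs, hMn, hM0, hMN, hMc, hMp, hMe⟩ :=
      Coprime.exists_normal_abelian_pgroup_le (N := N) hN0 inferInstance
    haveI := hMn
    haveI := Fact.mk hs
    obtain ⟨l, hl⟩ := IsPGroup.iff_card.mp hMp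
    have hM2 : ¬ 2 ∣ Nat.card M := fun h => hN2 (h.trans (card_dvd_of_le hMN))
    have hs2 : s ≠ 2 := by
      rintro rfl
      have hl0 : l ≠ 0 := fun h => hM0 (card_eq_one.mp (by rw [hl, h, pow_zero]))
      exact hM2 (hl ▸ dvd_pow_self 2 hl0)
    haveI hMcyc : IsCyclic M := hodd s hs hs2 M hMp
    set π := QuotientGroup.mk' M with hπ
    have hinj : Function.Injective (π.comp (P : Subgroup G).subtype) := by
      rw [injective_iff_map_eq_one]
      intro x hx
      have h1 : (x : G) ∈ M := (QuotientGroup.eq_one_iff _).mp hx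
      obtain ⟨k, hk⟩ := IsPGroup.iff_orderOf.mp P.isPGroup' x
      rw [← orderOf_eq_one_iff]
      refine Nat.eq_one_of_dvd_coprimes (a := 2 ^ k) (b := Nat.card M) ?_ (dvd_of_eq hk) ?_
      · exact Nat.Coprime.pow_left _ ((Nat.prime_two.coprime_iff_not_dvd).mpr hM2)
      · have := orderOf_dvd_natCard (⟨(x : G), h1⟩ : M)
        rwa [Subgroup.orderOf_mk, Subgroup.orderOf_coe] at this
    let P' := P.mapSurjective (QuotientGroup.mk'_surjective M)
    have hP'c : ¬ IsCyclic (P' : Subgroup (G ⧸ M)) := by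
      intro hc
      refine hP ?_
      let f : (P : Subgroup G) →* ((P : Subgroup G).map π) := π.subgroupMap (P : Subgroup G)
      have hf : Function.Bijective f := ⟨fun a b h => hinj (congrArg Subtype.val h),
        π.subgroupMap_surjective _⟩
      haveI : IsCyclic ((P : Subgroup G).map π) := hc
      exact isCyclic_of_surjective (MulEquiv.ofBijective f hf).symm.toMonoidHom (MulEquiv.surjective _)
    obtain ⟨hP'n, hP'8, -⟩ := ih _ (hn ▸ Cfsg.Agent.Lib.Solvable.Carter.card_quotient_lt hM0)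
      (G := G ⧸ M) inferInstance (hasConj_quotient _ G rfl hsol hB M) (h2.quotient M hM2)
      (fun t ht ht2 => by haveI := Fact.mk ht; exact (hodd t ht ht2).quotient M) P' hP'c rfl
    have h8 : Nat.card (P : Subgroup G) = 8 := by
      rw [← hP'8]
      refine Nat.card_congr (Equiv.ofBijective (π.subgroupMap (P : Subgroup G))
        ⟨fun a b h => hinj (congrArg Subtype.val h), π.subgroupMap_surjective _⟩)
    have hx8 := h8of h8
    refine ⟨?_, h8, hx8⟩
    obtain ⟨-, hgen, u, v, hu, hv, huv⟩ := quat_facts P.isPGroup' hP hPu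
      (fun x hx => hx8 (x : G) (by rw [Subgroup.orderOf_coe, hx]))
    rw [← Subgroup.orderOf_coe] at hu hv huv
    let φ : G →* MulAut M := MulAut.conjNormal
    have hAut : ∀ a b : MulAut M, Commute a b := fun a b => by
      obtain ⟨i, hi⟩ := MonoidHom.map_cyclic a.toMonoidHom
      obtain ⟨j, hj⟩ := MonoidHom.map_cyclic b.toMonoidHom
      have hi' : ∀ y, a y = y ^ i := hi
      have hj' : ∀ y, b y = y ^ j := hj
      ext y : 1
      rw [MulAut.mul_apply, MulAut.mul_apply, hj', hi', hi', hj', ← zpow_mul, ← zpow_mul, mul_comm]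
    have hφ4 : ∀ w : G, w ∈ (P : Subgroup G) → orderOf w = 4 → φ w = 1 := by
      intro w hw hwo
      have hu1 : φ (u : G) = 1 := order_four_map_eq_one hB φ (fun g => hAut _ _) hu hv huv
      obtain ⟨g, hg⟩ := hB (zpowers (u : G)) (zpowers w) inferInstance inferInstance
        (by rw [Nat.card_zpowers, Nat.card_zpowers, hu, hwo])
      have hmem : w ∈ (zpowers (u : G)).map (MulAut.conj g).toMonoidHom := hg ▸ mem_zpowers w
      rw [MonoidHom.map_zpowers] at hmem
      obtain ⟨i, rfl⟩ := mem_zpowers_iff.mp hmem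
      show φ ((g * (u : G) * g⁻¹) ^ i) = 1
      rw [map_zpow, map_mul, map_mul, hu1, mul_one, map_inv, mul_inv_cancel, one_zpow]
    have hPM : ∀ x : (P : Subgroup G), φ (x : G) = 1 := by
      intro x
      have hx : x ∈ closure {y : (P : Subgroup G) | orderOf y = 4} := hgen ▸ mem_top x
      induction hx using Subgroup.closure_induction with
      | mem y hy => exact hφ4 y y.2 (by rw [Subgroup.orderOf_coe]; exact hy)
      | one => exact map_one φ
      | mul a b _ _ iha ihb => rw [Subgroup.coe_mul, map_mul, iha, ihb, mul_one]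
      | inv a _ iha => rw [Subgroup.coe_inv, map_inv, iha, inv_one]
    refine ⟨fun x hx g => ?_⟩
    have h1 : π (g * x * g⁻¹) ∈ (P : Subgroup G).map π := by
      rw [map_mul, map_mul, map_inv]
      exact hP'n.conj_mem _ (mem_map_of_mem π hx) _
    obtain ⟨y, hy, hyx⟩ := h1
    have hm : y⁻¹ * (g * x * g⁻¹) ∈ M := by
      rw [← QuotientGroup.eq_one_iff]
      show π (y⁻¹ * (g * x * g⁻¹)) = 1
      rw [map_mul, map_inv, hyx, inv_mul_cancel]
    set m := y⁻¹ * (g * x * g⁻¹) with hmdef
    have hc : Commute y m := by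
      have h2 := congrArg (fun σ : MulAut M => ((σ ⟨m, hm⟩ : M) : G)) (hPM ⟨y, hy⟩)
      have h3 : y * m * y⁻¹ = m := h2
      exact mul_inv_eq_iff_eq_mul.mp h3
    have hpow : ∀ w ∈ (P : Subgroup G), w ^ 8 = 1 := fun w hw => by
      rw [← h8]; exact congrArg Subtype.val (pow_card_eq_one' (x := (⟨w, hw⟩ : (P : Subgroup G))))
    have hgx : g * x * g⁻¹ = y * m := by rw [hmdef, mul_inv_cancel_left]
    have hm8 : m ^ 8 = 1 := by
      have h3 : (g * x * g⁻¹) ^ 8 = 1 := by rw [conj_pow, hpow x hx, mul_one, mul_inv_cancel]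
      rwa [hgx, hc.mul_pow, hpow y hy, one_mul] at h3
    have hm1 : m = 1 := by
      rw [← orderOf_eq_one_iff]
      refine Nat.eq_one_of_dvd_coprimes (a := 2 ^ 3) (b := Nat.card M) ?_
        (orderOf_dvd_of_pow_eq_one hm8) ?_
      · exact Nat.Coprime.pow_left _ ((Nat.prime_two.coprime_iff_not_dvd).mpr hM2)
      · have := orderOf_dvd_natCard (⟨m, hm⟩ : M)
        rwa [Subgroup.orderOf_mk] at this
    rw [hgx, hm1, mul_one]; exact hy
  push Not at hodd'
  haveI : Nontrivial G := by
    by_contra hcon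
    rw [not_nontrivial_iff_subsingleton] at hcon
    exact hP inferInstance
  obtain ⟨q, N, hq, hNn, hN0, -, hNc, hNp, hNe⟩ :=
    Coprime.exists_normal_abelian_pgroup_le (N := (⊤ : Subgroup G)) top_ne_bot inferInstance
  haveI := hNn
  haveI := Fact.mk hq
  obtain ⟨l, hl⟩ := IsPGroup.iff_card.mp hNp
  have hq2 : q = 2 := by
    have h := hodd' N hNn hN0
    rw [hl] at h
    exact ((Nat.prime_dvd_prime_iff_eq Nat.prime_two hq).mp (Nat.prime_two.dvd_of_dvd_pow h)).symm
  subst hq2
  obtain ⟨⟨z, hzN⟩, hz⟩ := exists_prime_orderOf_dvd_card' (G := N) 2 (hodd' N hNn hN0)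
  rw [Subgroup.orderOf_mk] at hz
  have hNz : ∀ w ∈ N, w = 1 ∨ w = z := fun w hw => by
    by_cases h1 : w = 1
    · exact Or.inl h1
    · have hwo : orderOf w = 2 := orderOf_eq_prime (hNe w hw) h1
      obtain ⟨i, hi⟩ := mem_zpowers_iff.mp (h2 w z hwo hz
        (congrArg Subtype.val (hNc.is_comm.comm ⟨w, hw⟩ ⟨z, hzN⟩)))
      have hz2 : z ^ (2 : ℤ) = 1 := by
        rw [show (2 : ℤ) = ((2 : ℕ) : ℤ) from rfl, zpow_natCast, ← hz]; exact pow_orderOf_eq_one z
      rcases Int.even_or_odd' i with ⟨k, rfl | rfl⟩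
      · rw [zpow_mul, hz2, one_zpow] at hi; exact absurd hi.symm h1
      · rw [zpow_add, zpow_mul, hz2, one_zpow, one_mul, zpow_one] at hi; exact Or.inr hi.symm
  have hzc : z ∈ center G := mem_center_iff.mpr fun g => by
    rcases hNz _ (hNn.conj_mem z hzN g) with h | h
    · rw [mul_inv_eq_one, mul_eq_left] at h
      rw [h, orderOf_one] at hz; omega
    · exact mul_inv_eq_iff_eq_mul.mp h
  have huniq : ∀ t : G, orderOf t = 2 → t = z := fun t ht => by
    obtain ⟨i, hi⟩ := mem_zpowers_iff.mp (h2 t z ht hz (mem_center_iff.mp hzc t))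
    have hz2 : z ^ (2 : ℤ) = 1 := by
      rw [show (2 : ℤ) = ((2 : ℕ) : ℤ) from rfl, zpow_natCast, ← hz]; exact pow_orderOf_eq_one z
    rcases Int.even_or_odd' i with ⟨k, rfl | rfl⟩
    · rw [zpow_mul, hz2, one_zpow] at hi
      rw [← hi, orderOf_one] at ht; omega
    · rw [zpow_add, zpow_mul, hz2, one_zpow, one_mul, zpow_one] at hi; exact hi.symm
  -- no element of order eight
  obtain ⟨-, m, ⟨e⟩⟩ :=
    (Cfsg.Agent.Lib.Frobenius.isCyclic_or_quaternion_of_unique P.isPGroup' hPu).resolve_left hP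
  haveI : NeZero (2 ^ (m + 1)) := ⟨pow_ne_zero _ two_ne_zero⟩
  have hgen : (P : Subgroup G) ≤ closure {y : G | y ∈ (P : Subgroup G) ∧ orderOf y = 4} := by
    intro y hy
    have hxa : ∀ i, ((e.symm (QuaternionGroup.xa i) : (P : Subgroup G)) : G) ∈
        closure {y : G | y ∈ (P : Subgroup G) ∧ orderOf y = 4} := fun i =>
      subset_closure ⟨SetLike.coe_mem _, by
        rw [Subgroup.orderOf_coe, MulEquiv.orderOf_eq, QuaternionGroup.orderOf_xa]⟩
    obtain ⟨q, hq⟩ := e.symm.surjective ⟨y, hy⟩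
    have hy' : y = ((e.symm q : (P : Subgroup G)) : G) := by rw [hq]
    rw [hy']
    rcases q with i | i
    · have hi : (QuaternionGroup.a i : QuaternionGroup (2 ^ (m + 1))) =
          QuaternionGroup.xa 0 * QuaternionGroup.xa
            (i - ((2 ^ (m + 1) : ℕ) : ZMod (2 * 2 ^ (m + 1)))) := by
        rw [QuaternionGroup.xa_mul_xa]; congr 1; abel
      rw [hi, map_mul, Subgroup.coe_mul]
      exact mul_mem (hxa _) (hxa _)
    · exact hxa i
  have hx8 : ∀ x : G, orderOf x ≠ 8 := fun x => no_order_eight hsol hB hz hzc huniq P hgen x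
  have hcard8 : Nat.card (P : Subgroup G) = 8 :=
    (quat_facts P.isPGroup' hP hPu (fun x hx => hx8 (x : G) (by rw [Subgroup.orderOf_coe, hx]))).1
  refine ⟨?_, hcard8, hx8⟩
  haveI : Nontrivial (G ⧸ N) := by
    rw [← Finite.one_lt_card_iff_nontrivial]
    by_contra hcon
    have h1 : N.index = 1 := by
      have := Nat.card_pos (α := G ⧸ N)
      show Nat.card (G ⧸ N) = 1
      omega
    rw [index_eq_one] at h1
    refine hP ?_
    have hle : (P : Subgroup G) ≤ zpowers z := fun x _ => by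
      rcases hNz x (h1 ▸ mem_top x) with h | h
      · rw [h]; exact one_mem _
      · rw [h]; exact mem_zpowers z
    exact isCyclic_of_le hle inferInstance
  obtain ⟨s, W₀, hs, hW₀n, hW₀, -, hW₀c, hW₀p, -⟩ :=
    Coprime.exists_normal_abelian_pgroup_le (N := (⊤ : Subgroup (G ⧸ N))) top_ne_bot inferInstance
  haveI := Fact.mk hs
  set W := W₀.comap (QuotientGroup.mk' N) with hW
  haveI : W.Normal := hW₀n.comap _
  have hNW : N ≤ W := fun w hw => by
    rw [hW, mem_comap, QuotientGroup.mk'_apply, (QuotientGroup.eq_one_iff w).mpr hw]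
    exact W₀.one_mem
  have hcardN : Nat.card N = 2 := by
    have : N = zpowers z := le_antisymm (fun w hw => by
      rcases hNz w hw with h | h
      · rw [h]; exact one_mem _
      · rw [h]; exact mem_zpowers z) (zpowers_le.mpr hzN)
    rw [this, Nat.card_zpowers, hz]
  have hWcard : Nat.card W = 2 * Nat.card W₀ := by
    have h1 := relIndex_comap (H := (⊥ : Subgroup (G ⧸ N))) (QuotientGroup.mk' N) W
    rw [hW, map_comap_eq_self_of_surjective (QuotientGroup.mk'_surjective N), relIndex_bot_left,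
      MonoidHom.comap_bot, QuotientGroup.ker_mk'] at h1
    rw [← h1, ← hcardN, ← Nat.card_congr (subgroupOfEquivOfLe hNW).toEquiv]
    exact (card_mul_index _).symm
  obtain ⟨j, hj⟩ := IsPGroup.iff_card.mp hW₀p
  have hj0 : j ≠ 0 := fun h => hW₀ (card_eq_one.mp (by rw [hj, h, pow_zero]))
  by_cases hs2 : s = 2
  · subst hs2
    have hW2 : IsPGroup 2 W := IsPGroup.of_card (n := j + 1) (by rw [hWcard, hj, pow_succ'])
    obtain ⟨Q, hQ⟩ := hW2.exists_le_sylow
    obtain ⟨c, hc⟩ := MulAction.exists_smul_eq G Q P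
    have hWP : W ≤ P := by
      rw [← hc]
      intro w hw
      exact ⟨c⁻¹ * w * c, hQ (by simpa using ‹W.Normal›.conj_mem w hw c⁻¹), by
        show c * (c⁻¹ * w * c) * c⁻¹ = w
        group⟩
    suffices W = (P : Subgroup G) from this ▸ inferInstance
    refine eq_of_le_of_card_ge hWP ?_
    by_contra hlt
    rw [hcard8, hWcard, hj] at hlt
    have hj1 : j = 1 := by
      by_contra h
      have := Nat.pow_le_pow_right two_pos (show 2 ≤ j by omega)
      omega
    subst hj1
    have hWc : IsCyclic W := by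
      refine (Cfsg.Agent.Lib.Frobenius.isCyclic_or_quaternion_of_unique hW2 (h2.unique hW2)).resolve_right ?_
      rintro ⟨-, k, ⟨f⟩⟩
      haveI : NeZero (2 ^ (k + 1)) := ⟨pow_ne_zero _ two_ne_zero⟩
      have h5 := Nat.card_congr f.toEquiv
      rw [hWcard, hj, Nat.card_eq_fintype_card (α := QuaternionGroup _), QuaternionGroup.card] at h5
      have := Nat.one_lt_two_pow (n := k + 1) (by omega)
      omega
    obtain ⟨⟨w, hwW⟩, hw⟩ := IsCyclic.exists_ofOrder_eq_natCard (α := W)
    rw [Subgroup.orderOf_mk, hWcard, hj] at hw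
    have hP_le : (P : Subgroup G) ≤ W := hgen.trans ((closure_le W).mpr fun y hy => by
      obtain ⟨g, hg⟩ := hB (zpowers w) (zpowers y) inferInstance inferInstance
        (by rw [Nat.card_zpowers, Nat.card_zpowers, hw, hy.2]; norm_num)
      exact mem_of_conj (zpowers_le.mpr hwW) hg (mem_zpowers y))
    have := card_dvd_of_le hP_le
    rw [hcard8, hWcard, hj] at this
    norm_num at this
  · exfalso
    have hcommN : ∀ x ∈ W, ∀ y ∈ W, x * y * x⁻¹ * y⁻¹ ∈ N := fun x hx y hy => by
      rw [← QuotientGroup.eq_one_iff]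
      show QuotientGroup.mk' N (x * y * x⁻¹ * y⁻¹) = 1
      have h := congrArg Subtype.val (hW₀c.is_comm.comm ⟨_, hx⟩ ⟨_, hy⟩)
      simp only [Subgroup.coe_mul] at h
      rw [map_mul, map_mul, map_mul, map_inv, map_inv, h, mul_inv_cancel_right, mul_inv_cancel]
    have hNcen : N ≤ center G := fun w hw => by
      rcases hNz w hw with h | h
      · rw [h]; exact one_mem _
      · rw [h]; exact hzc
    let S : Subgroup G :=
      { carrier := {x | x ∈ W ∧ Odd (orderOf x)}
        one_mem' := ⟨W.one_mem, by simp⟩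
        mul_mem' := fun {a b} ha hb => ⟨W.mul_mem ha.1 hb.1, by
          have hc : Commute a b := commute_of_odd hNcen hNe (hcommN a ha.1 b hb.1) hb.2
          exact (ha.2.mul hb.2).of_dvd_nat (hc.orderOf_mul_dvd_lcm.trans (Nat.lcm_dvd_mul _ _))⟩
        inv_mem' := fun {a} ha => ⟨W.inv_mem ha.1, by rw [orderOf_inv]; exact ha.2⟩ }
    have hSn : S.Normal := ⟨fun x hx g => ⟨‹W.Normal›.conj_mem x hx.1 g, by
      rw [← MulAut.conj_apply, MulEquiv.orderOf_eq]; exact hx.2⟩⟩
    have hS0 : S ≠ ⊥ := by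
      intro h
      obtain ⟨⟨x, hx⟩, hxo⟩ := exists_prime_orderOf_dvd_card' (G := W) s
        (by rw [hWcard, hj]; exact (dvd_pow_self s hj0).mul_left 2)
      rw [Subgroup.orderOf_mk] at hxo
      have hxS : x ∈ S := ⟨hx, hxo ▸ hs.odd_of_ne_two hs2⟩
      rw [h, mem_bot] at hxS
      rw [hxS, orderOf_one] at hxo
      exact hs.ne_one hxo.symm
    obtain ⟨⟨x, hx⟩, hxo⟩ := exists_prime_orderOf_dvd_card' (G := S) 2 (hodd' S hSn hS0)
    rw [Subgroup.orderOf_mk] at hxo
    have := hx.2
    rw [hxo] at this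
    exact absurd this (by decide)

/-- All Sylow subgroups cyclic. -/
theorem sameConj_of_cyc (hsol : Group.IsSolvable G) (hcyc : ∀ r : ℕ, r.Prime → Cyc G r) :
    SameConj G := by
  obtain ⟨n, hn⟩ : ∃ n, Nat.card G = n := ⟨_, rfl⟩
  induction n using Nat.strong_induction_on generalizing G with
  | _ n ih =>
  classical
  rcases subsingleton_or_nontrivial G with hG | hG
  · intro A B _
    refine ⟨1, ?_⟩
    ext x
    rw [Subsingleton.elim x 1]
    simp
  obtain ⟨r, N, hr, hNn, hN0, -, -, hNp, hNe⟩ :=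
    Coprime.exists_normal_abelian_pgroup_le (N := (⊤ : Subgroup G)) top_ne_bot inferInstance
  haveI := hNn
  haveI := Fact.mk hr
  haveI := hcyc r hr N hNp
  have hNcard : Nat.card N = r := by
    obtain ⟨⟨w, hwN⟩, hw⟩ := IsCyclic.exists_ofOrder_eq_natCard (α := N)
    rw [Subgroup.orderOf_mk] at hw
    rw [← hw]
    refine orderOf_eq_prime (hNe w hwN) fun h => hN0 (card_eq_one.mp ?_)
    rw [← hw, h, orderOf_one]
  refine conj_of_unique_normal hr hNcard (fun x hx => ?_)
    (ih _ (hn ▸ Cfsg.Agent.Lib.Solvable.Carter.card_quotient_lt hN0) (G := G ⧸ N) inferInstance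
      (fun t ht => by haveI := Fact.mk ht; exact (hcyc t ht).quotient N) rfl)
  obtain ⟨g, hg⟩ := (hcyc r hr).conj hNp (IsPGroup.of_card (n := 1)
    (by rw [Nat.card_zpowers, hx, pow_one]) : IsPGroup r (zpowers x))
    (by rw [hNcard, Nat.card_zpowers, hx])
  exact mem_of_conj le_rfl hg (mem_zpowers x)

/-- Cyclic odd Sylow subgroups and a normal quaternion Sylow subgroup. -/
theorem sameConj_of_quat (hsol : Group.IsSolvable G)
    (hodd : ∀ r : ℕ, r.Prime → r ≠ 2 → Cyc G r) (h2 : OneSub G 2) (P : Sylow 2 G)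
    (hPn : (P : Subgroup G).Normal) (hP8 : Nat.card (P : Subgroup G) = 8)
    (hPc : ¬ IsCyclic (P : Subgroup G))
    (hconj : ∀ U U' : Subgroup G, IsPGroup 2 U → IsPGroup 2 U' → Nat.card U = Nat.card U' →
      ∃ g : G, U' = U.map (MulAut.conj g).toMonoidHom) :
    SameConj G := by
  obtain ⟨n, hn⟩ : ∃ n, Nat.card G = n := ⟨_, rfl⟩
  induction n using Nat.strong_induction_on generalizing G with
  | _ n ih =>
  classical
  haveI : Fact (Nat.Prime 2) := ⟨Nat.prime_two⟩
  haveI := hPn
  by_cases hodd' : ∃ N : Subgroup G, N.Normal ∧ N ≠ ⊥ ∧ ¬ 2 ∣ Nat.card N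
  · obtain ⟨N₀, hN₀n, hN₀0, hN₀2⟩ := hodd'
    obtain ⟨r, N, hr, hNn, hN0, hNN, -, hNp, hNe⟩ :=
      Coprime.exists_normal_abelian_pgroup_le (N := N₀) hN₀0 inferInstance
    haveI := hNn
    haveI := Fact.mk hr
    have hN2 : ¬ 2 ∣ Nat.card N := fun h => hN₀2 (h.trans (card_dvd_of_le hNN))
    have hr2 : r ≠ 2 := by
      rintro rfl
      obtain ⟨l, hl⟩ := IsPGroup.iff_card.mp hNp
      exact hN2 (hl ▸ dvd_pow_self 2 fun h => hN0 (card_eq_one.mp (by rw [hl, h, pow_zero])))
    haveI := hodd r hr hr2 N hNp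
    have hNcard : Nat.card N = r := by
      obtain ⟨⟨w, hwN⟩, hw⟩ := IsCyclic.exists_ofOrder_eq_natCard (α := N)
      rw [Subgroup.orderOf_mk] at hw
      rw [← hw]
      refine orderOf_eq_prime (hNe w hwN) fun h => hN0 (card_eq_one.mp ?_)
      rw [← hw, h, orderOf_one]
    set π := QuotientGroup.mk' N with hπ
    let P' := P.mapSurjective (QuotientGroup.mk'_surjective N)
    have hinj : Function.Injective (π.subgroupMap (P : Subgroup G)) := by
      rw [injective_iff_map_eq_one]
      intro x hx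
      have h1 : (x : G) ∈ N := (QuotientGroup.eq_one_iff _).mp (congrArg Subtype.val hx)
      obtain ⟨k, hk⟩ := IsPGroup.iff_orderOf.mp P.isPGroup' x
      rw [← orderOf_eq_one_iff]
      refine Nat.eq_one_of_dvd_coprimes (a := 2 ^ k) (b := Nat.card N) ?_ (dvd_of_eq hk) ?_
      · exact Nat.Coprime.pow_left _ ((Nat.prime_two.coprime_iff_not_dvd).mpr hN2)
      · have := orderOf_dvd_natCard (⟨(x : G), h1⟩ : N)
        rwa [Subgroup.orderOf_mk, Subgroup.orderOf_coe] at this
    have hbij : Function.Bijective (π.subgroupMap (P : Subgroup G)) :=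
      ⟨hinj, π.subgroupMap_surjective _⟩
    haveI hP'n : (P' : Subgroup (G ⧸ N)).Normal := hPn.map _ (QuotientGroup.mk'_surjective N)
    refine conj_of_unique_normal hr hNcard (fun x hx => ?_)
      (ih _ (hn ▸ Cfsg.Agent.Lib.Solvable.Carter.card_quotient_lt hN0) (G := G ⧸ N) inferInstance
        (fun t ht ht2 => by haveI := Fact.mk ht; exact (hodd t ht ht2).quotient N)
        (h2.quotient N hN2) P' hP'n
        (by rw [← hP8]; exact (Nat.card_congr (Equiv.ofBijective _ hbij)).symm)
        (fun hc => hPc (by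
          haveI : IsCyclic ((P : Subgroup G).map π) := hc
          exact isCyclic_of_surjective (MulEquiv.ofBijective _ hbij).symm.toMonoidHom
            (MulEquiv.surjective _)))
        ?_ rfl)
    · obtain ⟨g, hg⟩ := (hodd r hr hr2).conj hNp (IsPGroup.of_card (n := 1)
        (by rw [Nat.card_zpowers, hx, pow_one]) : IsPGroup r (zpowers x))
        (by rw [hNcard, Nat.card_zpowers, hx])
      exact mem_of_conj le_rfl hg (mem_zpowers x)
    · intro U U' hU hU' hc
      have key : ∀ V : Subgroup (G ⧸ N), IsPGroup 2 V → V ≤ (P : Subgroup G).map π := by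
        intro V hV
        obtain ⟨Q, hQ⟩ := hV.exists_le_sylow
        haveI := _root_.Sylow.unique_of_normal P' hP'n
        rw [Subsingleton.elim Q P'] at hQ
        exact hQ
      have lift : ∀ V : Subgroup (G ⧸ N), IsPGroup 2 V → ∃ V₀ : Subgroup G,
          V₀ ≤ P ∧ V₀.map π = V ∧ Nat.card V₀ = Nat.card V := by
        intro V hV
        refine ⟨V.comap π ⊓ (P : Subgroup G), inf_le_right, ?_, ?_⟩
        · refine le_antisymm (fun y hy => ?_) fun y hy => ?_
          · obtain ⟨x, hx, rfl⟩ := hy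
            exact hx.1
          · obtain ⟨x, hx, rfl⟩ := key V hV hy
            exact ⟨x, ⟨hy, hx⟩, rfl⟩
        · have hV' : (V.comap π ⊓ (P : Subgroup G)).map π = V := by
            refine le_antisymm (fun y hy => ?_) fun y hy => ?_
            · obtain ⟨x, hx, rfl⟩ := hy
              exact hx.1
            · obtain ⟨x, hx, rfl⟩ := key V hV hy
              exact ⟨x, ⟨hy, hx⟩, rfl⟩
          conv_rhs => rw [← hV']
          exact Nat.card_congr (Equiv.ofBijective (π.subgroupMap _)
            ⟨fun a b h => Subtype.ext (congrArg (fun t : (P : Subgroup G) => (t : G))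
              (hinj (a₁ := ⟨a, a.2.2⟩) (a₂ := ⟨b, b.2.2⟩) (Subtype.ext (congrArg Subtype.val h :)))),
              π.subgroupMap_surjective _⟩)
      obtain ⟨V, hVP, hVm, hVc⟩ := lift U hU
      obtain ⟨V', hV'P, hV'm, hV'c⟩ := lift U' hU'
      obtain ⟨g, hg⟩ := hconj V V' (P.isPGroup'.to_le hVP) (P.isPGroup'.to_le hV'P)
        (by rw [hVc, hV'c, hc])
      refine ⟨π g, ?_⟩
      rw [← hV'm, ← hVm, hg, Subgroup.map_map, Subgroup.map_map]
      congr 1
  push Not at hodd'
  intro A B hcard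
  have hPu := h2.unique P.isPGroup'
  obtain ⟨-, hgen, -⟩ := quat_facts P.isPGroup' hPc hPu fun x hx => hPc (by
    have : zpowers x = ⊤ := eq_top_of_card_eq _ (by rw [Nat.card_zpowers, hx, hP8])
    exact ⟨⟨x, fun y => mem_zpowers_iff.mp (this ▸ mem_top y)⟩⟩)
  have hallP : ∀ V : Subgroup G, IsPGroup 2 V → V ≤ P := by
    intro V hV
    obtain ⟨Q, hQ⟩ := hV.exists_le_sylow
    haveI := _root_.Sylow.unique_of_normal P hPn
    rw [Subsingleton.elim Q P] at hQ
    exact hQ
  set π := QuotientGroup.mk' (P : Subgroup G) with hπ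
  have hcop : (Nat.card (P : Subgroup G)).Coprime (P : Subgroup G).index := P.card_coprime_index
  -- the intersection with `P`
  have hinf : ∀ X : Subgroup G, Nat.card (X ⊓ P : Subgroup G) = 2 ^ (Nat.card X).factorization 2 := by
    intro X
    obtain ⟨S⟩ : Nonempty (Sylow 2 X) := inferInstance
    rw [← S.card_eq_multiplicity,
      Nat.card_congr (equivMapOfInjective (S : Subgroup X) X.subtype X.subtype_injective).toEquiv]
    obtain ⟨k, hk⟩ := IsPGroup.iff_card.mp (P.isPGroup'.to_le (inf_le_right : X ⊓ P ≤ P))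
    refine le_antisymm ?_ (Nat.le_of_dvd Nat.card_pos (card_dvd_of_le
      (le_inf (map_subtype_le _) (hallP _ (S.isPGroup'.map _)))))
    rw [hk, ← Nat.card_congr (equivMapOfInjective (S : Subgroup X) X.subtype X.subtype_injective).toEquiv,
      S.card_eq_multiplicity]
    refine Nat.pow_le_pow_right two_pos ((Nat.prime_two.pow_dvd_iff_le_factorization Nat.card_pos.ne').mp ?_)
    exact hk ▸ card_dvd_of_le inf_le_left
  obtain ⟨g₁, hg₁⟩ : ∃ g : G, B ⊔ P = (A ⊔ P).map (MulAut.conj g).toMonoidHom := by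
    have hQ : SameConj (G ⧸ (P : Subgroup G)) := sameConj_of_cyc inferInstance fun r hr => by
      haveI := Fact.mk hr
      by_cases hr2 : r = 2
      · subst hr2
        intro S hS
        obtain ⟨Q⟩ : Nonempty (Sylow 2 (G ⧸ (P : Subgroup G))) := inferInstance
        have hS1 : S = ⊥ := by
          rw [← card_eq_one]
          obtain ⟨k, hk⟩ := IsPGroup.iff_card.mp hS
          refine Nat.eq_one_of_dvd_coprimes (a := 2 ^ k) (b := (P : Subgroup G).index) ?_ (dvd_of_eq hk)
            S.card_subgroup_dvd_card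
          refine Nat.Coprime.pow_left _ ?_
          rw [hP8] at hcop
          exact hcop.coprime_dvd_left (by norm_num)
        rw [hS1]; infer_instance
      · exact (hodd r hr hr2).quotient _
    have himg : ∀ X : Subgroup G, Nat.card (X.map π) * Nat.card (X ⊓ P : Subgroup G) = Nat.card X := by
      intro X
      have h1 := relIndex_comap (H := (⊥ : Subgroup (G ⧸ (P : Subgroup G)))) π X
      rw [MonoidHom.comap_bot, hπ, QuotientGroup.ker_mk', relIndex_bot_left] at h1
      rw [hπ, ← h1, ← inf_relIndex_left, mul_comm,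
        ← Nat.card_congr (subgroupOfEquivOfLe (inf_le_left : X ⊓ P ≤ X)).toEquiv]
      exact card_mul_index _
    obtain ⟨g, hg⟩ := hQ (A.map π) (B.map π) (by
      have h1 := himg A
      have h2 := himg B
      rw [hinf] at h1 h2
      rw [hcard] at h1
      exact Nat.eq_of_mul_eq_mul_right (pow_pos two_pos _) (h1.trans h2.symm))
    obtain ⟨g, rfl⟩ := QuotientGroup.mk'_surjective _ g
    refine ⟨g, ?_⟩
    have h2 := congrArg (Subgroup.comap π) hg
    rw [comap_map_eq, hπ, QuotientGroup.ker_mk'] at h2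
    rw [h2]
    have h3 : ((A.map π).map (MulAut.conj (π g)).toMonoidHom) =
        (A.map (MulAut.conj g).toMonoidHom).map π := by
      rw [Subgroup.map_map, Subgroup.map_map]
      congr 1
    rw [← hπ, h3, comap_map_eq, hπ, QuotientGroup.ker_mk', Subgroup.map_sup,
      map_conj_eq_self (A := (P : Subgroup G)) (g := g) (le_normalizer_of_normal (mem_top g))]
  suffices ∃ g : G, B = (A.map (MulAut.conj g₁).toMonoidHom).map (MulAut.conj g).toMonoidHom by
    obtain ⟨g, hg⟩ := this
    exact ⟨g * g₁, by rw [hg, map_conj_map]⟩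
  set A' := A.map (MulAut.conj g₁).toMonoidHom with hA'
  have hA'c : Nat.card A' = Nat.card B := (card_map_conj A g₁).trans hcard
  have hsup : A' ⊔ P = B ⊔ P := by
    rw [hg₁, Subgroup.map_sup,
      map_conj_eq_self (A := (P : Subgroup G)) (g := g₁) (le_normalizer_of_normal (mem_top g₁))]
  by_cases hAP : A' ≤ P
  · obtain ⟨g, hg⟩ := hconj A' B (P.isPGroup'.to_le hAP) (P.isPGroup'.to_le (by
      have := le_sup_left.trans hsup.symm.le
      exact this.trans (sup_le hAP le_rfl))) hA'c
    exact ⟨g, hg⟩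
  -- elements of odd order fix no subgroup of order four
  have hnofix : ∀ t : G, Odd (orderOf t) → t ≠ 1 → ∀ U : Subgroup G, U ≤ P → Nat.card U = 4 →
      t ∉ normalizer (U : Set G) := by
    intro t ht ht1 U hUP hU ht'
    obtain ⟨k, hk⟩ := ht
    haveI : IsCyclic U := by
      refine (Cfsg.Agent.Lib.Frobenius.isCyclic_or_quaternion_of_unique (P.isPGroup'.to_le hUP)
        (h2.unique (P.isPGroup'.to_le hUP))).resolve_right ?_
      rintro ⟨-, l, ⟨f⟩⟩
      haveI : NeZero (2 ^ (l + 1)) := ⟨pow_ne_zero _ two_ne_zero⟩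
      have h5 := Nat.card_congr f.toEquiv
      rw [hU, Nat.card_eq_fintype_card (α := QuaternionGroup _), QuaternionGroup.card] at h5
      have := Nat.one_lt_two_pow (n := l + 1) (by omega)
      omega
    obtain ⟨⟨u, huU⟩, hu⟩ := IsCyclic.exists_ofOrder_eq_natCard (α := U)
    rw [Subgroup.orderOf_mk, hU] at hu
    have hUz : U = zpowers u := (eq_of_le_of_card_ge (zpowers_le.mpr huU)
      (by rw [Nat.card_zpowers, hu, hU])).symm
    have hu4 : u ^ 4 = 1 := by rw [← hu]; exact pow_orderOf_eq_one u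
    -- `t` centralises `U`
    have hfix : Commute t u := by
      have h1 : t * u * t⁻¹ ∈ U := (mem_normalizer_iff.mp ht' u).mp huU
      rw [hUz] at h1
      obtain ⟨i, hi, hi'⟩ := (IsOfFinOrder.mem_zpowers_iff_mem_range_orderOf
        (isOfFinOrder_of_finite u)).mp h1 |> Finset.mem_image.mp
      rw [Finset.mem_range, hu] at hi
      have hsq : t * (t * u * t⁻¹) * t⁻¹ = u ^ (i * i) := by
        have hc : t * u ^ i * t⁻¹ = (t * u * t⁻¹) ^ i := (conj_pow).symm
        rw [← hi', hc, ← hi', ← pow_mul]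
      have hord : orderOf (t * u * t⁻¹) = 4 := by rw [← MulAut.conj_apply, MulEquiv.orderOf_eq, hu]
      have hii : u ^ (i * i) = u := by
        interval_cases i
        · rw [← hi', pow_zero, orderOf_one] at hord; omega
        · simp
        · rw [← hi', orderOf_pow' u two_ne_zero, hu] at hord; norm_num at hord
        · rw [show 3 * 3 = 4 * 2 + 1 from rfl, pow_succ, pow_mul, hu4, one_pow, one_mul]
      rw [hii] at hsq
      have h2 : Commute (t ^ 2) u := by
        rw [sq]
        show t * t * u = u * (t * t)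
        calc t * t * u = t * (t * u * t⁻¹) * t⁻¹ * (t * t) := by group
          _ = _ := by rw [hsq]
      have ht1' : t = (t ^ 2) ^ (k + 1) := by
        rw [← pow_mul, show 2 * (k + 1) = (2 * k + 1) + 1 by ring, ← hk, pow_succ, pow_orderOf_eq_one,
          one_mul]
      rw [ht1']
      exact h2.pow_left _
    -- `t` centralises `P`
    have hcent : ∀ v ∈ (P : Subgroup G), Commute t v := by
      intro v hv
      by_cases hvU : v ∈ U
      · rw [hUz] at hvU
        obtain ⟨i, rfl⟩ := mem_zpowers_iff.mp hvU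
        exact hfix.zpow_right i
      have hidx : (U.subgroupOf (P : Subgroup G)).index = 2 := by
        have h1 := (U.subgroupOf (P : Subgroup G)).card_mul_index
        rw [Nat.card_congr (subgroupOfEquivOfLe hUP).toEquiv, hU, hP8] at h1
        omega
      have htv : t * v * t⁻¹ ∈ (P : Subgroup G) := hPn.conj_mem v hv t
      have htvU : t * v * t⁻¹ ∉ U := fun h => hvU ((mem_normalizer_iff.mp ht' v).mpr h)
      have hy : v⁻¹ * (t * v * t⁻¹) ∈ U := by
        have h1 := (Subgroup.mul_mem_iff_of_index_two hidx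
          (a := (⟨v⁻¹, (P : Subgroup G).inv_mem hv⟩ : (P : Subgroup G)))
          (b := (⟨_, htv⟩ : (P : Subgroup G)))).mpr
          (by simp only [mem_subgroupOf]; exact iff_of_false (fun h => hvU (inv_mem_iff.mp h)) htvU)
        exact mem_subgroupOf.mp h1
      set y := v⁻¹ * (t * v * t⁻¹) with hydef
      have hty : Commute t y := by
        rw [hUz] at hy
        obtain ⟨i, hi⟩ := mem_zpowers_iff.mp hy
        rw [← hi]
        exact hfix.zpow_right i
      have hpow : ∀ j : ℕ, t ^ j * v * (t ^ j)⁻¹ = v * y ^ j := by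
        intro j
        induction j with
        | zero => simp
        | succ j ihj =>
          have h1 : t * v * t⁻¹ = v * y := by rw [hydef, mul_inv_cancel_left]
          calc t ^ (j + 1) * v * (t ^ (j + 1))⁻¹ = t * (t ^ j * v * (t ^ j)⁻¹) * t⁻¹ := by
                rw [pow_succ']; group
            _ = (t * v * t⁻¹) * (t * y ^ j * t⁻¹) := by rw [ihj]; group
            _ = v * y * y ^ j := by rw [h1, (hty.pow_right j).eq, mul_inv_cancel_right]
            _ = _ := by rw [pow_succ', mul_assoc]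
      have hy1 : y = 1 := by
        have h1 := hpow (orderOf t)
        rw [pow_orderOf_eq_one] at h1
        simp only [one_mul, inv_one, mul_one, left_eq_mul] at h1
        have hy4 : y ^ 4 = 1 := by
          have := congrArg Subtype.val (pow_card_eq_one' (x := (⟨y, hy⟩ : U)))
          rwa [hU] at this
        rw [← orderOf_eq_one_iff]
        refine Nat.eq_one_of_dvd_coprimes (a := 4) (b := orderOf t) ?_
          (orderOf_dvd_of_pow_eq_one hy4) (orderOf_dvd_of_pow_eq_one h1)
        rw [show (4 : ℕ) = 2 ^ 2 from rfl]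
        exact Nat.Coprime.pow_left _ (Nat.coprime_two_left.mpr ⟨k, hk⟩)
      rw [hydef, inv_mul_eq_one, eq_comm, mul_inv_eq_iff_eq_mul] at hy1
      exact hy1
    -- the centralizer of `P` has a normal complement
    set C := centralizer ((P : Subgroup G) : Set G) with hC
    haveI : C.Normal := ⟨fun x hx g => mem_centralizer_iff.mpr fun w hw => by
      have h1 : g⁻¹ * w * g ∈ (P : Subgroup G) := by simpa using hPn.conj_mem w hw g⁻¹
      have h2 := mem_centralizer_iff.mp hx _ h1
      apply mul_left_cancel (a := g⁻¹)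
      apply mul_right_cancel (b := g)
      simpa [mul_assoc] using h2⟩
    set Z := (P : Subgroup G).subgroupOf C with hZ
    have hZc : Z ≤ center C := fun x hx => mem_center_iff.mpr fun y => Subtype.ext
      (mem_centralizer_iff.mp y.2 (x : G) hx).symm
    obtain ⟨i, hi⟩ := IsPGroup.iff_card.mp (P.isPGroup'.comap_subtype (K := C))
    have hcopZ : (Nat.card Z).Coprime Z.index := by
      rw [show Nat.card Z = 2 ^ i from hi]
      refine Nat.Coprime.pow_left _ ?_
      have h1 : Z.index ∣ (P : Subgroup G).index := relIndex_dvd_index_of_normal _ _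
      refine Nat.Coprime.coprime_dvd_right h1 ?_
      rw [hP8] at hcop
      exact hcop.coprime_dvd_left (by norm_num)
    obtain ⟨L, hL⟩ := exists_right_complement'_of_coprime hcopZ
    have hLcard : ¬ 2 ∣ Nat.card L := by
      rw [← hL.symm.index_eq_card]
      intro h
      have h1 : Z.index ∣ (P : Subgroup G).index := relIndex_dvd_index_of_normal _ _
      exact P.not_dvd_index (h.trans h1)
    haveI hLn : L.Normal := ⟨fun x hx c => by
      have hc : c ∈ ((Z ⊔ L : Subgroup C) : Set C) := by rw [hL.sup_eq_top]; trivial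
      rw [coe_mul_of_left_le_normalizer_right Z L (fun w hw => mem_normalizer_iff.mpr fun a => by
        rw [← mem_center_iff.mp (hZc hw) a, mul_inv_cancel_right])] at hc
      obtain ⟨w, hw, l, hl, rfl⟩ := hc
      have hz := mem_center_iff.mp (hZc hw)
      show w * l * x * (w * l)⁻¹ ∈ L
      rw [mul_inv_rev, show w * l * x * (l⁻¹ * w⁻¹) = w * (l * x * l⁻¹) * w⁻¹ by group,
        ← hz (l * x * l⁻¹), mul_inv_cancel_right]
      exact L.mul_mem (L.mul_mem hl hx) (L.inv_mem hl)⟩
    have hoddL : ∀ x : C, Odd (orderOf x) → x ∈ L := fun x hx => by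
      haveI := hLn
      have h1 : orderOf (QuotientGroup.mk' L x) ∣ Nat.gcd (orderOf x) (2 ^ i) := by
        refine Nat.dvd_gcd (orderOf_map_dvd _ x) ?_
        refine (_root_.orderOf_dvd_natCard _).trans (dvd_of_eq ?_)
        show L.index = 2 ^ i
        rw [hL.index_eq_card]; exact hi
      rw [Nat.Coprime.gcd_eq_one (Nat.Coprime.pow_right _ (Nat.coprime_two_right.mpr hx)),
        Nat.dvd_one, orderOf_eq_one_iff] at h1
      exact (QuotientGroup.eq_one_iff x).mp h1
    have hLmn : (L.map C.subtype).Normal := ⟨fun x hx g => by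
      obtain ⟨l, hl, rfl⟩ := hx
      refine ⟨⟨_, ‹C.Normal›.conj_mem (l : G) l.2 g⟩, hoddL _ ?_, rfl⟩
      rw [← Subgroup.orderOf_coe]
      show Odd (orderOf (g * (l : G) * g⁻¹))
      rw [← MulAut.conj_apply, MulEquiv.orderOf_eq, Subgroup.orderOf_coe]
      refine Odd.of_dvd_nat (Nat.not_even_iff_odd.mp fun h => hLcard (even_iff_two_dvd.mp h)) ?_
      rw [← Subgroup.orderOf_mk l hl]
      exact _root_.orderOf_dvd_natCard _⟩
    have hL0 : L.map C.subtype = ⊥ := by
      by_contra h
      have h1 := hodd' _ hLmn h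
      rw [← Nat.card_congr (equivMapOfInjective L C.subtype C.subtype_injective).toEquiv] at h1
      exact hLcard h1
    have htC : t ∈ C := mem_centralizer_iff.mpr fun v hv => (hcent v hv).eq.symm
    have : t ∈ L.map C.subtype := ⟨⟨t, htC⟩, hoddL _ (by rw [Subgroup.orderOf_mk]; exact ⟨k, hk⟩), rfl⟩
    rw [hL0, mem_bot] at this
    exact ht1 this
  have hBP : ¬ B ≤ P := fun h => hAP (le_sup_left.trans (hsup.le.trans (sup_le h le_rfl)))
  -- an element of odd order
  have hex : ∀ X : Subgroup G, ¬ X ≤ P → ∃ t ∈ X, Odd (orderOf t) ∧ t ≠ 1 := by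
    intro X hX
    by_contra! hcon
    refine hX (hallP X fun x => ?_)
    obtain ⟨a, b, hb, hab⟩ := Nat.exists_eq_two_pow_mul_odd (orderOf_pos (x : G)).ne'
    have h1 : ((x : G) ^ 2 ^ a) = 1 := by
      refine hcon _ (X.pow_mem x.2 _) ?_
      rw [orderOf_pow' _ (pow_ne_zero _ two_ne_zero), hab, Nat.gcd_mul_right_left,
        Nat.mul_div_cancel_left _ (pow_pos two_pos a)]
      exact hb
    exact ⟨a, Subtype.ext (by rw [SubmonoidClass.coe_pow, h1, OneMemClass.coe_one])⟩
  have hnot4 : ∀ X : Subgroup G, ¬ X ≤ P → Nat.card (X ⊓ P : Subgroup G) ≠ 4 := by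
    intro X hX h4
    obtain ⟨t, htX, ht, ht1⟩ := hex X hX
    refine hnofix t ht ht1 _ inf_le_right h4 ?_
    rw [mem_normalizer_iff]
    intro a
    constructor
    · intro ha
      exact ⟨X.mul_mem (X.mul_mem htX ha.1) (X.inv_mem htX), hPn.conj_mem a ha.2 t⟩
    · intro ha
      constructor
      · have := X.mul_mem (X.mul_mem (X.inv_mem htX) ha.1) htX
        simpa [mul_assoc] using this
      · show a ∈ (P : Subgroup G)
        simpa [mul_assoc] using hPn.conj_mem _ ha.2 t⁻¹
  -- the intersections are normal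
  have hDeq : A' ⊓ P = B ⊓ P ∧ (A' ⊓ P).Normal := by
    have hc : Nat.card (A' ⊓ P : Subgroup G) = Nat.card (B ⊓ P : Subgroup G) := by
      rw [hinf, hinf, hA'c]
    have h4 := hnot4 A' hAP
    obtain ⟨k, hk⟩ := IsPGroup.iff_card.mp (P.isPGroup'.to_le (inf_le_right : A' ⊓ P ≤ P))
    have hk3 : k ≤ 3 := by
      have h1 := card_dvd_of_le (inf_le_right : A' ⊓ P ≤ P)
      rw [hk, hP8, show (8 : ℕ) = 2 ^ 3 from rfl] at h1
      exact (Nat.pow_dvd_pow_iff_le_right one_lt_two).mp h1
    interval_cases k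
    · rw [pow_zero] at hk
      have h1 := card_eq_one.mp hk
      rw [hk] at hc
      exact ⟨h1.trans (card_eq_one.mp hc.symm).symm, h1 ▸ inferInstance⟩
    · rw [pow_one] at hk
      rw [hk] at hc
      have huq : ∀ V W : Subgroup G, V ≤ P → W ≤ P → Nat.card V = 2 → Nat.card W = 2 → V = W := by
        intro V W hV hW hVc hWc
        refine eq_of_le_of_card_ge (fun x hx => ?_) (by rw [hVc, hWc])
        by_cases hx1 : x = 1
        · rw [hx1]; exact W.one_mem
        obtain ⟨⟨w, hw⟩, hwo⟩ := exists_prime_orderOf_dvd_card' (G := W) 2 (dvd_of_eq hWc.symm)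
        rw [Subgroup.orderOf_mk] at hwo
        have hxo : orderOf x = 2 := by
          have h1 := orderOf_dvd_natCard (⟨x, hx⟩ : V)
          rw [Subgroup.orderOf_mk, hVc] at h1
          exact ((Nat.dvd_prime Nat.prime_two).mp h1).resolve_left
            fun h => hx1 (orderOf_eq_one_iff.mp h)
        obtain ⟨i, hi⟩ := mem_zpowers_iff.mp (hPu ⟨x, hV hx⟩ ⟨w, hW hw⟩
          (by rw [Subgroup.orderOf_mk, hxo]) (by rw [Subgroup.orderOf_mk, hwo]))
        have h2 : w ^ i = x := congrArg Subtype.val hi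
        exact h2 ▸ W.zpow_mem hw i
      refine ⟨huq _ _ inf_le_right inf_le_right hk hc.symm, ⟨fun x hx g => ?_⟩⟩
      have hm := huq ((A' ⊓ P).map (MulAut.conj g).toMonoidHom) (A' ⊓ P) (by
        rintro _ ⟨w, hw, rfl⟩
        exact hPn.conj_mem w hw.2 g) inf_le_right (by rw [card_map_conj, hk]) hk
      exact hm ▸ mem_map_of_mem (MulAut.conj g).toMonoidHom hx
    · exact absurd (by rw [hk]; rfl) h4
    · have h1 : A' ⊓ P = (P : Subgroup G) := eq_of_le_of_card_ge inf_le_right (by rw [hk, hP8]; norm_num)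
      have h2 : B ⊓ P = (P : Subgroup G) := eq_of_le_of_card_ge inf_le_right (by rw [← hc, hk, hP8]; norm_num)
      exact ⟨h1.trans h2.symm, h1.symm ▸ hPn⟩
  haveI := hDeq.2
  refine exists_conj_of_inf_eq (N := (P : Subgroup G)) inferInstance hDeq.1
    le_normalizer_of_normal hsup ?_ hA'c
  refine hcop.coprime_dvd_right ?_
  rw [inf_relIndex_left]
  exact relIndex_dvd_index_of_normal _ _

end Cfsg.Agent.AbelianConj
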