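import Cfsg.Agent.Lib.AbelianConj.Solvable

/-!
Quotients of solvable groups in which abelian subgroups of equal order are conjugate.
-/

set_option autoImplicit false

namespace Cfsg.Agent.AbelianConj

open Subgroup

universe u

/-- The property passes to isomorphic groups. -/
lemma hasConj_of_equiv {G H : Type u} [Group G] [Group H] (e : G ≃* H) (hB : HasConj G) :
    HasConj H := by
  intro A B hA hB' h
  have hc : ∀ X : Subgroup H, IsMulCommutative X → IsMulCommutative (X.comap e.toMonoidHom) :=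
    fun X hX => ⟨⟨fun a b => Subtype.ext (e.injective (by
      rw [Subgroup.coe_mul, Subgroup.coe_mul, map_mul, map_mul]
      exact congrArg Subtype.val (hX.is_comm.comm ⟨_, a.2⟩ ⟨_, b.2⟩)))⟩⟩
  have hcard : ∀ X : Subgroup H, Nat.card (X.comap e.toMonoidHom) = Nat.card X := fun X =>
    Nat.card_congr (e.toEquiv.subtypeEquiv fun a => Iff.rfl)
  obtain ⟨g, hg⟩ := hB _ _ (hc A hA) (hc B hB') (by rw [hcard, hcard, h])
  refine ⟨e g, ?_⟩
  have hm : ∀ X : Subgroup H, (X.comap e.toMonoidHom).map e.toMonoidHom = X := fun X =>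
    map_comap_eq_self_of_surjective e.surjective X
  conv_lhs => rw [← hm B, hg]
  conv_rhs => rw [← hm A]
  rw [Subgroup.map_map, Subgroup.map_map]
  congr 1
  ext w; simp

/-- Quotients of solvable groups with the property have it. -/
theorem hasConj_quotient (n : ℕ) : ∀ (G : Type u) [Group G] [Finite G], Nat.card G = n →
    Group.IsSolvable G → HasConj G → ∀ (M : Subgroup G) [M.Normal], HasConj (G ⧸ M) := by
  induction n using Nat.strong_induction_on with
  | _ n ih =>
  intro G _ _ hn hsol hB M hMn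
  classical
  by_cases hM : M = ⊥
  · subst hM
    exact hasConj_of_equiv QuotientGroup.quotientBot.symm hB
  obtain ⟨N, hN⟩ := Set.Finite.exists_minimal
    (Set.toFinite {N : Subgroup G | N.Normal ∧ N ≤ M ∧ N ≠ ⊥}) ⟨M, hMn, le_rfl, hM⟩
  obtain ⟨hNn, hNM, hN0⟩ := hN.1
  haveI := hNn
  have hmin : ∀ K : Subgroup G, K.Normal → K ≤ N → K = ⊥ ∨ K = N := fun K hK hKN => by
    by_cases hK0 : K = ⊥
    · exact Or.inl hK0
    · exact Or.inr (le_antisymm hKN (hN.2 ⟨hK, hKN.trans hNM, hK0⟩ hKN))
  haveI : Group.IsSolvable N := inferInstance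
  obtain ⟨p, K, hp, hKn, hK0, hKN, hKc, hKp, -⟩ :=
    Cfsg.Agent.Lib.Coprime.exists_normal_abelian_pgroup_le hN0 inferInstance
  obtain rfl : K = N := (hmin K hKn hKN).resolve_left hK0
  have hQ : HasConj (G ⧸ K) := fun A B hA hB' h =>
    quotient_conj_minimal hsol hB hp K hK0 hKc hKp hmin A B hA hB' h
  have hlt : Nat.card (G ⧸ K) < n := hn ▸ Cfsg.Agent.Lib.Solvable.Carter.card_quotient_lt hK0
  haveI : (M.map (QuotientGroup.mk' K)).Normal := hMn.map _ (QuotientGroup.mk'_surjective K)
  exact hasConj_of_equiv (QuotientGroup.quotientQuotientEquivQuotient K M hNM)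
    (ih _ hlt (G ⧸ K) rfl inferInstance hQ (M.map (QuotientGroup.mk' K)))

end Cfsg.Agent.AbelianConj
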