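import Cfsg.Agent.Lib.AbelianConj.Basic
import Cfsg.Agent.Lib.Solvable.Carter
import Cfsg.Agent.Lib.Frobenius.UniqueSubgroup
import Mathlib

/-!
Solvable groups in which abelian subgroups of equal order are conjugate: quotients.
-/

set_option autoImplicit false

namespace Cfsg.Agent.AbelianConj

open Subgroup
open scoped commutatorElement

universe u

variable {G : Type u} [Group G] [Finite G]

/-- A commuting-up-to-a-central-involution pair with one odd order commutes. -/
lemma commute_of_odd {Z : Subgroup G} (hZ : Z ≤ center G) (hZ2 : ∀ z ∈ Z, z ^ 2 = 1) {x y : G}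
    (h : ⁅x, y⁆ ∈ Z) (hy : Odd (orderOf y)) : x * y = y * x := by
  have hc : ∀ k : ℕ, x * y ^ k * x⁻¹ = ⁅x, y⁆ ^ k * y ^ k := by
    intro k
    have h1 : x * y * x⁻¹ = ⁅x, y⁆ * y := by rw [commutatorElement_def]; group
    have h2 : Commute ⁅x, y⁆ y := (mem_center_iff.mp (hZ h) y).symm
    rw [← conj_pow, h1, h2.mul_pow]
  have h3 := hc (orderOf y)
  rw [pow_orderOf_eq_one, mul_one, mul_inv_cancel, mul_one] at h3
  obtain ⟨j, hj⟩ := hy
  rw [← commutatorElement_eq_one_iff_mul_comm]
  rw [hj, pow_succ, pow_mul, hZ2 _ h, one_pow, one_mul] at h3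
  exact h3.symm

/-- A solvable group with conjugate abelian subgroups and a Sylow 2-subgroup with one involution,
not cyclic, has no element of order eight. -/
lemma no_order_eight (hsol : Group.IsSolvable G) (hB : HasConj G) {z : G} (hz : orderOf z = 2)
    (hzc : z ∈ center G) (huniq : ∀ t : G, orderOf t = 2 → t = z) (P : Sylow 2 G)
    (hgen : (P : Subgroup G) ≤ closure {y : G | y ∈ (P : Subgroup G) ∧ orderOf y = 4})
    (x : G) : orderOf x ≠ 8 := by
  classical
  haveI : Fact (Nat.Prime 2) := ⟨Nat.prime_two⟩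
  intro hx
  have h8 : 8 ∣ Nat.card G := hx ▸ orderOf_dvd_natCard x
  have hzn : (zpowers z).Normal := ⟨fun a ha g => by
    obtain ⟨k, rfl⟩ := mem_zpowers_iff.mp ha
    rw [mem_center_iff.mp ((center G).zpow_mem hzc k) g, mul_inv_cancel_right]
    exact zpow_mem_zpowers z k⟩
  obtain ⟨L, hL⟩ := Set.Finite.exists_maximal
    (Set.toFinite {L : Subgroup G | L.Normal ∧ z ∈ L ∧ ¬ 4 ∣ Nat.card L})
    ⟨zpowers z, hzn, mem_zpowers z, by rw [Nat.card_zpowers, hz]; decide⟩
  haveI := hL.1.1
  have hzL : z ∈ L := hL.1.2.1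
  have hL4 : ¬ 4 ∣ Nat.card L := hL.1.2.2
  haveI : Nontrivial (G ⧸ L) := by
    rw [← Finite.one_lt_card_iff_nontrivial]
    by_contra hcon
    have h1 : L.index = 1 := by
      have := Nat.card_pos (α := G ⧸ L)
      show Nat.card (G ⧸ L) = 1
      omega
    rw [index_eq_one] at h1
    exact hL4 (by rw [h1, Subgroup.card_top]; exact (by norm_num : 4 ∣ 8).trans h8)
  haveI : Group.IsSolvable (G ⧸ L) := inferInstance
  obtain ⟨s, W₀, hs, hW₀n, hW₀, hW₀c, hW₀p, hmin⟩ :=
    Cfsg.Agent.Lib.Solvable.Carter.exists_minimal_normal (G := G ⧸ L)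
  haveI := Fact.mk hs
  set π := QuotientGroup.mk' L with hπ
  set W := W₀.comap π with hW
  have hLW : L ≤ W := fun l hl => by
    rw [hW, mem_comap, hπ, QuotientGroup.mk'_apply, (QuotientGroup.eq_one_iff l).mpr hl]
    exact W₀.one_mem
  haveI : W.Normal := hW₀n.comap π
  have hW4 : 4 ∣ Nat.card W := by
    by_contra hcon
    have hWL := hL.2 ⟨inferInstance, hLW hzL, hcon⟩ hLW
    refine hW₀ (eq_bot_iff.mpr fun q hq => ?_)
    obtain ⟨g, rfl⟩ := QuotientGroup.mk'_surjective L q
    exact mem_bot.mpr ((QuotientGroup.eq_one_iff g).mpr (hWL hq))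
  obtain ⟨V, hV⟩ := Sylow.exists_subgroup_card_pow_prime (G := W) 2
    (show 2 ^ 2 ∣ Nat.card W from hW4)
  have hV4 : ∃ u ∈ W, orderOf u = 4 := by
    by_contra hcon
    push Not at hcon
    have hsub : ∀ v : V, (v : W) = 1 ∨ ((v : W) : G) = z := by
      intro v
      have h1 : orderOf ((v : W) : G) ∣ 2 ^ 2 := by
        rw [Subgroup.orderOf_coe, Subgroup.orderOf_coe, ← hV]
        exact orderOf_dvd_natCard v
      obtain ⟨j, hj, hj'⟩ := (Nat.dvd_prime_pow Nat.prime_two).mp h1
      interval_cases j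
      · rw [pow_zero, orderOf_eq_one_iff] at hj'
        exact Or.inl (by simpa using hj')
      · exact Or.inr (huniq _ hj')
      · exact absurd hj' (hcon _ (v : W).2)
    have hf : Function.Injective fun v : V => decide ((v : W) = 1) := by
      intro a b hab
      simp only [decide_eq_decide] at hab
      apply Subtype.ext; apply Subtype.ext
      rcases hsub a with ha | ha <;> rcases hsub b with hb | hb
      · rw [ha, hb]
      · rw [ha, hab.mp ha]
      · rw [hb, hab.mpr hb]
      · rw [ha, hb]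
    have := Nat.card_le_card_of_injective _ hf
    rw [hV, Nat.card_eq_fintype_card (α := Bool), Fintype.card_bool] at this
    omega
  obtain ⟨u, huW, hu⟩ := hV4
  have h4mem : ∀ y : G, orderOf y = 4 → y ∈ W := by
    intro y hy
    obtain ⟨g, hg⟩ := hB (zpowers u) (zpowers y) inferInstance inferInstance
      (by rw [Nat.card_zpowers, Nat.card_zpowers, hu, hy])
    exact mem_of_conj (zpowers_le.mpr huW) hg (mem_zpowers y)
  -- the quotient exponent on 2-elements
  have hx2 : orderOf (x ^ 2) = 4 := by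
    rw [orderOf_pow' x two_ne_zero, hx]; rfl
  have hWP : (P : Subgroup G) ≤ W := hgen.trans ((closure_le W).mpr fun y hy => h4mem y hy.2)
  obtain ⟨g, hg⟩ := IsPGroup.exists_le_sylow (IsPGroup.of_card (n := 3)
    (by rw [Nat.card_zpowers, hx]; norm_num) : IsPGroup 2 (zpowers x))
  obtain ⟨c, hc⟩ := MulAction.exists_smul_eq G P g
  have hxW : x ∈ W := by
    have h1 := hg (mem_zpowers x)
    rw [← hc] at h1
    obtain ⟨a, ha, rfl⟩ := h1
    exact ‹W.Normal›.conj_mem a (hWP ha) c
  -- powers of order 4 lie outside `L`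
  have hout : x ^ 2 ∉ L := fun h => hL4 (by
    rw [← hx2, ← Subgroup.orderOf_mk (x ^ 2) h]; exact orderOf_dvd_natCard _)
  have hxq : π x ∈ W₀ := hxW
  obtain ⟨k, hk⟩ := hW₀p ⟨π x, hxq⟩
  have hk' : π x ^ s ^ k = 1 := congrArg Subtype.val hk
  have hs2 : s = 2 := by
    by_contra hne
    have h1 : orderOf (π x) = 1 := by
      refine Nat.eq_one_of_dvd_coprimes ?_ (hx ▸ orderOf_map_dvd π x) (orderOf_dvd_of_pow_eq_one hk')
      have : Nat.Coprime (2 ^ 3) (s ^ k) :=
        Nat.Coprime.pow _ _ ((Nat.coprime_primes Nat.prime_two hs).mpr (Ne.symm hne))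
      exact this
    rw [orderOf_eq_one_iff, hπ, QuotientGroup.mk'_apply, QuotientGroup.eq_one_iff] at h1
    exact hout (L.pow_mem h1 2)
  subst hs2
  let S : Subgroup (G ⧸ L) :=
    { carrier := {q | q ∈ W₀ ∧ q ^ 2 = 1}
      one_mem' := ⟨W₀.one_mem, one_pow 2⟩
      mul_mem' := fun {a b} ha hb => ⟨W₀.mul_mem ha.1 hb.1, by
        have : Commute a b := congrArg Subtype.val (hW₀c.is_comm.comm ⟨a, ha.1⟩ ⟨b, hb.1⟩)
        rw [this.mul_pow, ha.2, hb.2, one_mul]⟩
      inv_mem' := fun {a} ha => ⟨W₀.inv_mem ha.1, by rw [inv_pow, ha.2, inv_one]⟩ }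
  have hSn : S.Normal := ⟨fun a ha g => ⟨hW₀n.conj_mem a ha.1 g, by
    rw [conj_pow, ha.2, mul_one, mul_inv_cancel]⟩⟩
  rcases hmin S hSn (fun a ha => ha.1) with hS | hS
  · obtain ⟨w, hw⟩ := exists_prime_orderOf_dvd_card' (G := W₀) 2 (by
      obtain ⟨l, hl⟩ := IsPGroup.iff_card.mp hW₀p
      have : l ≠ 0 := fun h => by
        rw [h, pow_zero] at hl
        exact hW₀ (card_eq_one.mp hl)
      exact hl ▸ dvd_pow_self 2 this)
    have hwS : (w : G ⧸ L) ∈ S := ⟨w.2, by
      have := pow_orderOf_eq_one w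
      rw [hw] at this
      exact congrArg Subtype.val this⟩
    rw [hS, mem_bot, OneMemClass.coe_eq_one] at hwS
    rw [hwS, orderOf_one] at hw
    omega
  · refine hout ((QuotientGroup.eq_one_iff (x ^ 2)).mp ?_)
    have h2 : π x ∈ S := hS ▸ hxq
    exact (map_pow π x 2).trans h2.2

/-- The preimage of an abelian subgroup of the quotient by a central involution. -/
lemma central_preimage_spec {z : G} (hz : orderOf z = 2) (hzc : z ∈ center G) (N : Subgroup G)
    [N.Normal] (hN : N = zpowers z) (A : Subgroup (G ⧸ N)) (hA : IsMulCommutative A) :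
    ∃ C : Subgroup G, C ≤ A.comap (QuotientGroup.mk' N) ∧ IsMulCommutative C ∧ ¬ 2 ∣ Nat.card C ∧
      (∀ s : ℕ, s.Prime → s ≠ 2 →
        (Nat.card C).factorization s = (Nat.card (A.comap (QuotientGroup.mk' N))).factorization s) ∧
      ∀ x ∈ A.comap (QuotientGroup.mk' N), ∀ c ∈ C, x * c = c * x := by
  haveI : Fact (Nat.Prime 2) := ⟨Nat.prime_two⟩
  set A₀ := A.comap (QuotientGroup.mk' N) with hA₀
  have hNc : N ≤ center G := hN ▸ zpowers_le.mpr hzc
  have hN2 : ∀ w ∈ N, w ^ 2 = 1 := fun w hw => by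
    rw [hN] at hw
    obtain ⟨k, rfl⟩ := mem_zpowers_iff.mp hw
    have hz2 : z ^ 2 = 1 := by rw [← hz]; exact pow_orderOf_eq_one z
    rw [← zpow_natCast, ← zpow_mul, mul_comm, zpow_mul, zpow_natCast, hz2, one_zpow]
  have hcomm : ∀ x ∈ A₀, ∀ y ∈ A₀, ⁅x, y⁆ ∈ N := fun x hx y hy => by
    rw [← QuotientGroup.eq_one_iff]
    show QuotientGroup.mk' N ⁅x, y⁆ = 1
    rw [map_commutatorElement, commutatorElement_eq_one_iff_mul_comm]
    exact congrArg Subtype.val (hA.is_comm.comm ⟨_, hx⟩ ⟨_, hy⟩)
  have hcm : ∀ x ∈ A₀, ∀ y ∈ A₀, Odd (orderOf y) → x * y = y * x := fun x hx y hy h =>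
    commute_of_odd hNc hN2 (hcomm x hx y hy) h
  let C : Subgroup G :=
    { carrier := {x | x ∈ A₀ ∧ Odd (orderOf x)}
      one_mem' := ⟨A₀.one_mem, by simp⟩
      mul_mem' := fun {a b} ha hb => ⟨A₀.mul_mem ha.1 hb.1, by
        have hc : Commute a b := hcm a ha.1 b hb.1 hb.2
        exact (ha.2.mul hb.2).of_dvd_nat
          (hc.orderOf_mul_dvd_lcm.trans (Nat.lcm_dvd_mul _ _))⟩
      inv_mem' := fun {a} ha => ⟨A₀.inv_mem ha.1, by rw [orderOf_inv]; exact ha.2⟩ }
  refine ⟨C, fun x hx => hx.1, ⟨⟨fun a b => Subtype.ext (hcm a a.2.1 b b.2.1 b.2.2)⟩⟩, ?_, ?_,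
    fun x hx c hc => hcm x hx c hc.1 hc.2⟩
  · intro h
    obtain ⟨⟨c, hc⟩, hc2⟩ := exists_prime_orderOf_dvd_card' (G := C) 2 h
    rw [Subgroup.orderOf_mk] at hc2
    have := hc.2
    rw [hc2] at this
    exact absurd this (by decide)
  · intro s hs hs2
    haveI := Fact.mk hs
    refine le_antisymm ((Nat.factorization_le_iff_dvd Nat.card_pos.ne' Nat.card_pos.ne').mpr
      (card_dvd_of_le (show C ≤ A₀ from fun x hx => hx.1)) s) ?_
    obtain ⟨S⟩ : Nonempty (Sylow s A₀) := inferInstance
    refine (hs.pow_dvd_iff_le_factorization Nat.card_pos.ne').mp ?_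
    rw [← S.card_eq_multiplicity,
      Nat.card_congr (equivMapOfInjective (S : Subgroup A₀) A₀.subtype A₀.subtype_injective).toEquiv]
    refine card_dvd_of_le ?_
    rintro _ ⟨x, hx, rfl⟩
    refine ⟨x.2, ?_⟩
    obtain ⟨k, hk⟩ := IsPGroup.iff_orderOf.mp S.isPGroup' ⟨x, hx⟩
    rw [Subgroup.orderOf_mk, ← Subgroup.orderOf_coe] at hk
    exact hk ▸ (hs.odd_of_ne_two hs2).pow

/-- Quotient by a central involution which is the only involution. -/
theorem quotient_conj_involution (hsol : Group.IsSolvable G) (hB : HasConj G) (N : Subgroup G)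
    [N.Normal] {z : G} (hz : orderOf z = 2) (hzc : z ∈ center G) (hN : N = zpowers z)
    (huniq : ∀ t : G, orderOf t = 2 → t = z) (P : Sylow 2 G) (hP : ¬ IsCyclic (P : Subgroup G))
    (A B : Subgroup (G ⧸ N)) (hA : IsMulCommutative A) (hB' : IsMulCommutative B)
    (h : Nat.card A = Nat.card B) : ∃ g : G ⧸ N, B = A.map (MulAut.conj g).toMonoidHom := by
  classical
  haveI : Fact (Nat.Prime 2) := ⟨Nat.prime_two⟩
  set π := QuotientGroup.mk' N with hπ
  have hsurj : Function.Surjective π := QuotientGroup.mk'_surjective N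
  set A₀ := A.comap π with hA₀
  set B₀ := B.comap π with hB₀
  suffices ∃ g : G, B₀ = A₀.map (MulAut.conj g).toMonoidHom by
    obtain ⟨g, hg⟩ := this
    refine ⟨π g, ?_⟩
    rw [← map_comap_eq_self_of_surjective hsurj B, ← hB₀, hg, Subgroup.map_map]
    conv_rhs => rw [← map_comap_eq_self_of_surjective hsurj A, Subgroup.map_map]
    congr 1
  have hcard : Nat.card A₀ = Nat.card B₀ := by
    have e : ∀ X : Subgroup (G ⧸ N), Nat.card (X.comap π) = Nat.card N * Nat.card X := fun X => by
      have h1 := relIndex_comap (H := (⊥ : Subgroup (G ⧸ N))) π (X.comap π)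
      rw [map_comap_eq_self_of_surjective hsurj, relIndex_bot_left, MonoidHom.comap_bot,
        hπ, QuotientGroup.ker_mk'] at h1
      rw [← h1, ← Nat.card_congr (subgroupOfEquivOfLe (show N ≤ X.comap π from fun n hn => by
        rw [mem_comap, hπ, QuotientGroup.mk'_apply, (QuotientGroup.eq_one_iff n).mpr hn]
        exact X.one_mem)).toEquiv]
      exact (card_mul_index _).symm
    rw [hA₀, hB₀, e, e, h]
  obtain ⟨CA, hCA, hCAc, hCA2, hCAs, hCAx⟩ := central_preimage_spec hz hzc N hN A hA
  obtain ⟨CB, hCB, hCBc, hCB2, hCBs, hCBx⟩ := central_preimage_spec hz hzc N hN B hB'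
  have hCC : Nat.card CA = Nat.card CB := by
    refine Nat.eq_of_factorization_eq Nat.card_pos.ne' Nat.card_pos.ne' fun s => ?_
    by_cases hs : s.Prime
    · by_cases hs2 : s = 2
      · subst hs2
        rw [Nat.factorization_eq_zero_of_not_dvd hCA2, Nat.factorization_eq_zero_of_not_dvd hCB2]
      · rw [hCAs s hs hs2, hCBs s hs hs2]; exact congrArg (fun n => n.factorization s) hcard
    · rw [Nat.factorization_eq_zero_of_not_prime _ hs, Nat.factorization_eq_zero_of_not_prime _ hs]
  -- the structure of `P`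
  have hPq := (Cfsg.Agent.Lib.Frobenius.isCyclic_or_quaternion_of_unique P.isPGroup' fun a b ha hb => by
    have h1 := huniq (a : G) (by rw [Subgroup.orderOf_coe, ha])
    have h2 := huniq (b : G) (by rw [Subgroup.orderOf_coe, hb])
    have : a = b := Subtype.ext (h1.trans h2.symm)
    exact this ▸ mem_zpowers a).resolve_left hP
  obtain ⟨-, m, ⟨e⟩⟩ := hPq
  haveI : NeZero (2 ^ (m + 1)) := ⟨pow_ne_zero _ two_ne_zero⟩
  have hgen : (P : Subgroup G) ≤ closure {y : G | y ∈ (P : Subgroup G) ∧ orderOf y = 4} := by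
    intro y hy
    have hxa : ∀ i, ((e.symm (QuaternionGroup.xa i) : (P : Subgroup G)) : G) ∈
        closure {y : G | y ∈ (P : Subgroup G) ∧ orderOf y = 4} := fun i =>
      subset_closure ⟨SetLike.coe_mem _, by
        rw [Subgroup.orderOf_coe, MulEquiv.orderOf_eq, QuaternionGroup.orderOf_xa]⟩
    obtain ⟨q, hq⟩ := e.symm.surjective ⟨y, hy⟩
    have hy' : y = ((e.symm q : (P : Subgroup G)) : G) := by rw [hq]
    rw [hy']
    rcases q with i | i
    · have hi : (QuaternionGroup.a i : QuaternionGroup (2 ^ (m + 1))) =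
          QuaternionGroup.xa 0 * QuaternionGroup.xa
            (i - ((2 ^ (m + 1) : ℕ) : ZMod (2 * 2 ^ (m + 1)))) := by
        rw [QuaternionGroup.xa_mul_xa]; congr 1; abel
      rw [hi, map_mul, Subgroup.coe_mul]
      exact mul_mem (hxa _) (hxa _)
    · exact hxa i
  have hPcard : Nat.card (P : Subgroup G) = 8 := by
    have hm : m = 0 := by
      by_contra hm
      obtain ⟨l, rfl⟩ := Nat.exists_eq_succ_of_ne_zero hm
      refine no_order_eight hsol hB hz hzc huniq P hgen
        (((e.symm (QuaternionGroup.a 1 ^ 2 ^ l) : (P : Subgroup G))) : G) ?_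
      rw [Subgroup.orderOf_coe, MulEquiv.orderOf_eq,
        orderOf_pow' _ (pow_ne_zero _ two_ne_zero), QuaternionGroup.orderOf_a_one,
        show (2 : ℕ) * 2 ^ (l.succ + 1) = 8 * 2 ^ l by rw [Nat.succ_eq_add_one]; ring,
        Nat.gcd_mul_left_left, Nat.mul_div_cancel _ (pow_pos two_pos l)]
    subst hm
    rw [Nat.card_congr e.toEquiv, Nat.card_eq_fintype_card, QuaternionGroup.card]
    norm_num
  have h8 : (Nat.card G).factorization 2 = 3 := by
    have := P.card_eq_multiplicity
    rw [hPcard] at this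
    exact (Nat.pow_right_injective le_rfl (show (2 : ℕ) ^ 3 = 2 ^ _ from this)).symm
  obtain ⟨g, hg⟩ := hB CA CB hCAc hCBc hCC
  set A₁ := A₀.map (MulAut.conj g).toMonoidHom with hA₁
  have hA₁x : ∀ x ∈ A₁, ∀ c ∈ CB, x * c = c * x := by
    rintro _ ⟨x, hx, rfl⟩ c hc
    rw [hg] at hc
    obtain ⟨a, ha, rfl⟩ := hc
    rw [← map_mul, ← map_mul, hCAx x hx a ha]
  have hA₁card : Nat.card A₁ = Nat.card B₀ := by
    rw [hA₁, ← Nat.card_congr (equivMapOfInjective _ _ (MulEquiv.injective _)).toEquiv, hcard]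
  have hCA₁ : CB ≤ A₁ := by rw [hg]; exact Subgroup.map_mono hCA
  obtain ⟨SA⟩ : Nonempty (Sylow 2 A₁) := inferInstance
  obtain ⟨SB⟩ : Nonempty (Sylow 2 B₀) := inferInstance
  -- each is generated by its Sylow 2-subgroup and the odd part
  have hgen2 : ∀ (X : Subgroup G) (S : Sylow 2 X), CB ≤ X →
      (∀ s : ℕ, s.Prime → s ≠ 2 → (Nat.card CB).factorization s = (Nat.card X).factorization s) →
      X = (S : Subgroup X).map X.subtype ⊔ CB := by
    intro X S hX hXs
    refine (eq_of_le_of_card_ge (sup_le (map_subtype_le _) hX) ?_).symm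
    refine Nat.le_of_dvd Nat.card_pos ?_
    rw [← Nat.factorization_le_iff_dvd Nat.card_pos.ne' Nat.card_pos.ne']
    intro s
    by_cases hs : s.Prime
    swap
    · rw [Nat.factorization_eq_zero_of_not_prime _ hs]; exact Nat.zero_le _
    refine (hs.pow_dvd_iff_le_factorization Nat.card_pos.ne').mp ?_
    by_cases hs2 : s = 2
    · subst hs2
      rw [← S.card_eq_multiplicity,
        Nat.card_congr (equivMapOfInjective (S : Subgroup X) X.subtype X.subtype_injective).toEquiv]
      exact card_dvd_of_le le_sup_left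
    · rw [← hXs s hs hs2]
      exact (Nat.ordProj_dvd _ _).trans (card_dvd_of_le le_sup_right)
  have eA : A₁ = (SA : Subgroup A₁).map A₁.subtype ⊔ CB :=
    hgen2 A₁ SA hCA₁ fun s hs hs2 => by rw [hA₁card]; exact hCBs s hs hs2
  have eB : B₀ = (SB : Subgroup B₀).map B₀.subtype ⊔ CB := hgen2 B₀ SB hCB fun s hs hs2 => hCBs s hs hs2
  by_cases hv : (Nat.card B₀).factorization 2 ≤ 2
  · -- both are abelian
    have hab : ∀ (X : Subgroup G) (S : Sylow 2 X), X = (S : Subgroup X).map X.subtype ⊔ CB →
        (∀ x ∈ X, ∀ c ∈ CB, x * c = c * x) → (Nat.card X).factorization 2 ≤ 2 →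
        IsMulCommutative X := by
      intro X S hX hXc hX2
      have hS : ∀ a ∈ (S : Subgroup X).map X.subtype, ∀ b ∈ (S : Subgroup X).map X.subtype,
          a * b = b * a := by
        have hSc : ∀ a b : (S : Subgroup X), a * b = b * a := by
          have hc := S.card_eq_multiplicity
          rcases Nat.lt_or_ge ((Nat.card X).factorization 2) 2 with h1 | h1
          · have : IsCyclic (S : Subgroup X) := by
              interval_cases hk : (Nat.card X).factorization 2
              · haveI := (Nat.card_eq_one_iff_unique.mp hc).1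
                infer_instance
              · exact isCyclic_of_prime_card hc
            obtain ⟨w, hw⟩ := IsCyclic.exists_generator (α := (S : Subgroup X))
            intro a b
            obtain ⟨i, rfl⟩ := mem_zpowers_iff.mp (hw a)
            obtain ⟨j, rfl⟩ := mem_zpowers_iff.mp (hw b)
            rw [← zpow_add, ← zpow_add, add_comm]
          · have h2 : (Nat.card X).factorization 2 = 2 := by omega
            exact fun a b => IsPGroup.commutative_of_card_eq_prime_sq (hc.trans (by rw [h2])) a b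
        rintro _ ⟨a, ha, rfl⟩ _ ⟨b, hb, rfl⟩
        rw [← map_mul, ← map_mul]
        exact congrArg _ (congrArg Subtype.val (hSc ⟨a, ha⟩ ⟨b, hb⟩))
      refine le_centralizer_iff_isMulCommutative.mp ?_
      conv_lhs => rw [hX]
      refine sup_le (fun a ha => mem_centralizer_iff.mpr fun x hx => ?_)
        (fun c hc => mem_centralizer_iff.mpr fun x hx => hXc x hx c hc)
      rw [SetLike.mem_coe, hX] at hx
      have hle : (S : Subgroup X).map X.subtype ⊔ CB ≤ centralizer ({a} : Set G) :=
        sup_le (fun b hb => mem_centralizer_singleton_iff.mpr (hS b hb a ha))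
          (fun c hc => mem_centralizer_singleton_iff.mpr (hXc a (map_subtype_le _ ha) c hc).symm)
      exact mem_centralizer_singleton_iff.mp (hle hx)
    have hA₁c := hab A₁ SA eA hA₁x (hA₁card ▸ hv)
    obtain ⟨g', hg'⟩ := hB A₁ B₀ hA₁c (hab B₀ SB eB hCBx hv) hA₁card
    refine ⟨g' * g, ?_⟩
    rw [hg', hA₁, Subgroup.map_map]
    congr 1
    ext w; simp [mul_assoc]
  · -- Sylow subgroups of `G`
    set H := centralizer (CB : Set G) with hH
    have hfull : ∀ (X : Subgroup G) (S : Sylow 2 X), Nat.card X = Nat.card B₀ →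
        (∀ x ∈ X, ∀ c ∈ CB, x * c = c * x) →
        ∃ T : Sylow 2 H, (T : Subgroup H).map H.subtype = (S : Subgroup X).map X.subtype := by
      intro X S hX hXc
      have hXH : (S : Subgroup X).map X.subtype ≤ H := (map_subtype_le _).trans fun x hx =>
        mem_centralizer_iff.mpr fun c hc => (hXc x hx c hc).symm
      have hScard : Nat.card ((S : Subgroup X).map X.subtype) = 8 := by
        rw [← Nat.card_congr (equivMapOfInjective (S : Subgroup X) X.subtype X.subtype_injective).toEquiv,
          S.card_eq_multiplicity, hX]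
        have h1 : (Nat.card B₀).factorization 2 ≤ 3 := h8 ▸
          (Nat.factorization_le_iff_dvd Nat.card_pos.ne' Nat.card_pos.ne').mpr
            B₀.card_subgroup_dvd_card 2
        have : (Nat.card B₀).factorization 2 = 3 := by omega
        rw [this]; norm_num
      refine ⟨Sylow.ofCard (((S : Subgroup X).map X.subtype).subgroupOf H) ?_, ?_⟩
      · rw [Nat.card_congr (subgroupOfEquivOfLe hXH).toEquiv, hScard]
        have h1 : (Nat.card H).factorization 2 ≤ 3 := h8 ▸
          (Nat.factorization_le_iff_dvd Nat.card_pos.ne' Nat.card_pos.ne').mpr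
            H.card_subgroup_dvd_card 2
        have h2 : 3 ≤ (Nat.card H).factorization 2 := by
          refine (Nat.prime_two.pow_dvd_iff_le_factorization Nat.card_pos.ne').mp ?_
          rw [show (2 : ℕ) ^ 3 = 8 by norm_num, ← hScard]
          exact card_dvd_of_le hXH
        rw [show (Nat.card H).factorization 2 = 3 by omega]
        norm_num
      · rw [Sylow.coe_ofCard]
        exact map_subgroupOf_eq_of_le hXH
    obtain ⟨TA, hTA⟩ := hfull A₁ SA hA₁card hA₁x
    obtain ⟨TB, hTB⟩ := hfull B₀ SB rfl hCBx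
    obtain ⟨c, hc⟩ := MulAction.exists_smul_eq H TA TB
    refine ⟨(c : G) * g, ?_⟩
    have hfix : CB.map (MulAut.conj (c : G)).toMonoidHom = CB := by
      have e : ∀ x ∈ CB, MulAut.conj (c : G) x = x := fun x hx => by
        rw [MulAut.conj_apply, ← mem_centralizer_iff.mp c.2 x hx, mul_inv_cancel_right]
      refine le_antisymm ?_ fun x hx => ⟨x, hx, e x hx⟩
      rintro _ ⟨x, hx, rfl⟩
      show MulAut.conj (c : G) x ∈ CB
      rw [e x hx]; exact hx
    have e1 : A₀.map (MulAut.conj ((c : G) * g)).toMonoidHom =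
        A₁.map (MulAut.conj (c : G)).toMonoidHom := by
      rw [hA₁, Subgroup.map_map]
      congr 1
      ext w; simp [mul_assoc]
    rw [e1]
    conv_rhs => rw [eA]
    rw [Subgroup.map_sup, hfix, ← hTA]
    conv_lhs => rw [eB, ← hTB, ← hc]
    congr 1
    rw [Subgroup.map_map]
    show ((TA : Subgroup H).map (MulAut.conj c).toMonoidHom).map H.subtype = _
    rw [Subgroup.map_map]
    rfl

/-- Quotient by a minimal normal subgroup. -/
theorem quotient_conj_minimal (hsol : Group.IsSolvable G) (hB : HasConj G) {p : ℕ} (hp : p.Prime)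
    (N : Subgroup G) [N.Normal] (hN0 : N ≠ ⊥) (hNc : IsMulCommutative N) (hNp : IsPGroup p N)
    (hmin : ∀ K : Subgroup G, K.Normal → K ≤ N → K = ⊥ ∨ K = N)
    (A B : Subgroup (G ⧸ N)) (hA : IsMulCommutative A) (hB' : IsMulCommutative B)
    (h : Nat.card A = Nat.card B) : ∃ g : G ⧸ N, B = A.map (MulAut.conj g).toMonoidHom := by
  classical
  haveI := Fact.mk hp
  obtain ⟨n, hn⟩ := IsPGroup.iff_card.mp hNp
  by_cases hp2 : p = 2
  swap
  · refine quotient_conj hB N (good_of_odd hB N ?_) A B hA hB' h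
    rw [hn]; exact (hp.odd_of_ne_two hp2).pow
  subst hp2
  have hn0 : n ≠ 0 := fun h => hN0 (card_eq_one.mp (by rw [hn, h, pow_zero]))
  have h2N : 2 ∣ Nat.card N := hn ▸ dvd_pow_self 2 hn0
  have hgood : (∀ x : G, (∃ k, orderOf x = 2 ^ k) → x ∈ N) → Good N := fun hall r hr hrN => by
    rw [hn] at hrN
    rw [(Nat.prime_dvd_prime_iff_eq hr Nat.prime_two).mp (hr.dvd_of_dvd_pow hrN)]
    exact Or.inr hall
  by_cases hpair : ∃ a b : G, orderOf a = 2 ∧ orderOf b = 2 ∧ a ≠ b ∧ Commute a b
  · obtain ⟨a, b, ha, hb, hne, hab⟩ := hpair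
    have ha2 : a ^ 2 = 1 := by rw [← ha]; exact pow_orderOf_eq_one a
    have hb2 : b ^ 2 = 1 := by rw [← hb]; exact pow_orderOf_eq_one b
    let V : Subgroup G := zpowers a ⊔ zpowers b
    have hle : zpowers a ⊔ zpowers b ≤ centralizer ((zpowers a ⊔ zpowers b : Subgroup G) : Set G) := by
      refine sup_le (zpowers_le.mpr ?_) (zpowers_le.mpr ?_) <;>
        refine mem_centralizer_iff.mpr fun x hx => ?_
      · exact mem_centralizer_singleton_iff.mp ((sup_le (zpowers_le.mpr
          (mem_centralizer_singleton_iff.mpr rfl)) (zpowers_le.mpr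
          (mem_centralizer_singleton_iff.mpr hab.symm.eq))) hx)
      · exact mem_centralizer_singleton_iff.mp ((sup_le (zpowers_le.mpr
          (mem_centralizer_singleton_iff.mpr hab.eq)) (zpowers_le.mpr
          (mem_centralizer_singleton_iff.mpr rfl))) hx)
    have hVc : IsMulCommutative V := le_centralizer_iff_isMulCommutative.mp hle
    let E : Subgroup G :=
      { carrier := {x | x ∈ V ∧ x ^ 2 = 1}
        one_mem' := ⟨V.one_mem, one_pow 2⟩
        mul_mem' := fun {x y} hx hy => ⟨V.mul_mem hx.1 hy.1, by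
          have : Commute x y := congrArg Subtype.val (hVc.is_comm.comm ⟨x, hx.1⟩ ⟨y, hy.1⟩)
          rw [this.mul_pow, hx.2, hy.2, one_mul]⟩
        inv_mem' := fun {x} hx => ⟨V.inv_mem hx.1, by rw [inv_pow, hx.2, inv_one]⟩ }
    have hVE : V ≤ E := sup_le (zpowers_le.mpr ⟨mem_sup_left (mem_zpowers a), ha2⟩)
      (zpowers_le.mpr ⟨mem_sup_right (mem_zpowers b), hb2⟩)
    haveI : (zpowers a).Normal → True := fun _ => trivial
    have hcardV : Nat.card V = 2 ^ 2 := by
      obtain ⟨v, hv⟩ := IsPGroup.iff_card.mp (show IsPGroup 2 V from fun x => ⟨1, Subtype.ext (by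
        rw [pow_one, SubmonoidClass.coe_pow, OneMemClass.coe_one]; exact (hVE x.2).2)⟩)
      have hle4 : Nat.card V ≤ 4 := by
        have hsub : ∀ x ∈ V, x = 1 ∨ x = a ∨ x = b ∨ x = a * b := by
          let F : Subgroup G :=
            { carrier := {x | x = 1 ∨ x = a ∨ x = b ∨ x = a * b}
              one_mem' := Or.inl rfl
              mul_mem' := by
                have hba : b * a = a * b := hab.eq.symm
                have haa : a * a = 1 := by rw [← sq, ha2]
                have hbb : b * b = 1 := by rw [← sq, hb2]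
                have e1 : a * (a * b) = b := by rw [← mul_assoc, haa, one_mul]
                have e2 : b * (a * b) = a := by rw [← hba, ← mul_assoc, hbb, one_mul]
                have e3 : a * b * a = b := by rw [← hba, mul_assoc, haa, mul_one]
                have e4 : a * b * b = a := by rw [mul_assoc, hbb, mul_one]
                have e5 : a * b * (a * b) = 1 := by rw [← mul_assoc, e3, hbb]
                rintro x y (rfl | rfl | rfl | rfl) (rfl | rfl | rfl | rfl) <;>
                  simp [haa, hbb, hba, e1, e2, e3, e4, e5]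
              inv_mem' := by
                have hai : a⁻¹ = a := inv_eq_of_mul_eq_one_right (by rw [← sq, ha2])
                have hbi : b⁻¹ = b := inv_eq_of_mul_eq_one_right (by rw [← sq, hb2])
                rintro x (rfl | rfl | rfl | rfl) <;> simp [hai, hbi, hab.eq] }
          have : V ≤ F := sup_le (zpowers_le.mpr (Or.inr (Or.inl rfl)))
            (zpowers_le.mpr (Or.inr (Or.inr (Or.inl rfl))))
          exact fun x hx => this hx
        calc Nat.card V ≤ ({1, a, b, a * b} : Finset G).card := by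
              show Nat.card (V : Set G) ≤ _
              rw [Nat.card_eq_card_finite_toFinset (Set.toFinite (V : Set G))]
              exact Finset.card_le_card fun x hx => by
                rw [Set.Finite.mem_toFinset] at hx
                simpa using hsub x hx
          _ ≤ 4 := Finset.card_le_four
      have h3 : 3 ≤ Nat.card V := by
        have h1 : ({1, a, b} : Finset G).card = 3 := by
          have ha1 : (1 : G) ≠ a := fun h => by rw [← h, orderOf_one] at ha; omega
          have hb1 : (1 : G) ≠ b := fun h => by rw [← h, orderOf_one] at hb; omega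
          simp [ha1, hb1, hne]
        rw [← h1]
        show _ ≤ Nat.card (V : Set G)
        rw [Nat.card_eq_card_finite_toFinset (Set.toFinite (V : Set G))]
        refine Finset.card_le_card fun x hx => ?_
        rw [Set.Finite.mem_toFinset]
        simp only [Finset.mem_insert, Finset.mem_singleton] at hx
        rcases hx with rfl | rfl | rfl
        exacts [V.one_mem, mem_sup_left (mem_zpowers _), mem_sup_right (mem_zpowers _)]
      rcases Nat.lt_or_ge v 2 with h' | h'
      · exfalso
        have h5 := Nat.pow_le_pow_right (n := 2) two_pos (show v ≤ 1 by omega)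
        rw [pow_one] at h5
        omega
      · rcases Nat.lt_or_ge v 3 with h'' | h''
        · rw [hv, show v = 2 by omega]
        · have : 2 ^ 3 ≤ 2 ^ v := Nat.pow_le_pow_right two_pos h''
          omega
    exact quotient_conj hB N (hgood (all_mem_of_elementary hB N Nat.prime_two h2N V hVc
      (fun x hx => (hVE hx).2) hcardV)) A B hA hB' h
  push Not at hpair
  obtain ⟨⟨z, hzN⟩, hz⟩ := exists_prime_orderOf_dvd_card' (G := N) 2 h2N
  rw [Subgroup.orderOf_mk] at hz
  have hzc : z ∈ center G := by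
    rw [mem_center_iff]
    intro g
    have h1 : g * z * g⁻¹ ∈ N := ‹N.Normal›.conj_mem z hzN g
    have h2 : g * z * g⁻¹ = z := by
      by_contra hne
      refine hpair z (g * z * g⁻¹) hz ?_ (Ne.symm hne)
        (congrArg Subtype.val (hNc.is_comm.comm ⟨z, hzN⟩ ⟨_, h1⟩))
      rw [← MulAut.conj_apply, MulEquiv.orderOf_eq, hz]
    calc g * z = g * z * g⁻¹ * g := by group
      _ = z * g := by rw [h2]
  have huniq : ∀ t : G, orderOf t = 2 → t = z := fun t ht => by
    by_contra hne
    exact hpair t z ht hz hne (mem_center_iff.mp hzc t)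
  by_cases hcyc : ∀ S : Subgroup G, IsPGroup 2 S → IsCyclic S
  · refine quotient_conj hB N (fun r hr hrN => Or.inl ?_) A B hA hB' h
    rw [hn] at hrN
    rwa [(Nat.prime_dvd_prime_iff_eq hr Nat.prime_two).mp (hr.dvd_of_dvd_pow hrN)]
  push Not at hcyc
  obtain ⟨S, hS, hSc⟩ := hcyc
  obtain ⟨P, hSP⟩ := hS.exists_le_sylow
  have hP : ¬ IsCyclic (P : Subgroup G) := fun h => hSc (by
    haveI := h
    exact isCyclic_of_surjective (subgroupOfEquivOfLe hSP).toMonoidHom (MulEquiv.surjective _))
  -- `N` is generated by `z`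
  have hN : N = zpowers z := by
    haveI hzn : (zpowers z).Normal := ⟨fun a ha g => by
      obtain ⟨k, rfl⟩ := mem_zpowers_iff.mp ha
      rw [mem_center_iff.mp ((center G).zpow_mem hzc k) g, mul_inv_cancel_right]
      exact zpow_mem_zpowers z k⟩
    refine ((hmin _ hzn (zpowers_le.mpr hzN)).resolve_left fun h0 => ?_).symm
    rw [zpowers_eq_bot] at h0
    rw [h0, orderOf_one] at hz
    omega
  exact quotient_conj_involution hsol hB N hz hzc hN huniq P hP A B hA hB' h

end Cfsg.Agent.AbelianConj
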